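import Cfsg.Agent.Th.Main1700
import Cfsg.Agent.Th.CentTh
set_option linter.all false

/-!
The centraliser of the involution `a` in the Thompson group is `2^{1+8}.A9`.
-/

set_option autoImplicit false

namespace Cfsg.Agent.Th.Main475

open Cfsg.Agent.Th.Base Cfsg.Agent.Th.Word Cfsg.Agent.Th.KOracle Cfsg.Agent.Th.COracleDef
  Cfsg.Agent.Th.IndexUpper Cfsg.Agent.Th.FlagCover

/-- the context of the certificate -/
theorem exists_cx : ∃ g : ℕ → Cfsg.Spor.Th, Cx gTh g := by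
  obtain ⟨g, hN, hF⟩ := CoverMain.nodesTh
  exact ⟨g, gTh_inv, gTh_relK, rel_th.C, hN, hF, gTh_top⟩

/-- `a ≠ 1`: `C_K(a) = B ≠ K` -/
theorem a_ne_one : gTh 1 ≠ 1 := by
  intro ha
  obtain ⟨-, -, h1, -⟩ := Main1700.final
  have h2 : sub gTh isK ≤ sub gTh isB := fun k hk =>
    KFacts.centralizer_a gTh_inv gTh_relK h1 hk (by rw [ha, mul_one, one_mul])
  have h3 := KFacts.card_B gTh_inv gTh_relK h1
  have h4 : sub gTh isB = sub gTh isK := le_antisymm B_le_K h2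
  rw [h4, h1] at h3
  norm_num at h3

theorem main : ∃ z : Cfsg.Spor.Th, orderOf z = 2 ∧ ∃ (Q : Subgroup (Subgroup.centralizer ({z} : Set Cfsg.Spor.Th)))
    (_ : Q.Normal), Nat.card Q = 2 ^ 9 ∧ Cfsg.IsExtraspecial 2 Q ∧
      Nonempty ((Subgroup.centralizer ({z} : Set Cfsg.Spor.Th)) ⧸ Q ≃* alternatingGroup (Fin 9)) := by
  obtain ⟨g, hcx⟩ := exists_cx
  obtain ⟨-, -, h1, h2⟩ := Main1700.final
  have hs : IsSimpleGroup Cfsg.Spor.Th := Main1700.isTh.1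
  refine ⟨gTh 1, orderOf_eq_prime (p := 2) gTh_relK.a2 a_ne_one, ?_⟩
  rw [CentTh.centralizer_eq hcx h2 h1 hs a_ne_one]
  exact CStruct.main gTh_inv gTh_relK rel_th.C h1 (CentTh.card_C hcx h2 h1) a_ne_one

end Cfsg.Agent.Th.Main475
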