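import Cfsg.Prelude.Def_Spor_Th
set_option linter.all false

/-!
Common interface for the Thompson group project (S1706, S1700, S0464, S0475).
Relations of the presented Thompson group as structures over an ARBITRARY group:
`RelK` = relators (1)(2)(3) (no u), `RelC` = relators without b, `Rel` = all of them.
Letters of packed words: 1=a 2=b 3=c 4=d 5=e 6=s 7=s⁻¹ 8=t 9=t⁻¹ 10=u 11=u⁻¹.
-/

set_option autoImplicit false

namespace Cfsg.Agent.Th.Base

/-- relations (1),(2),(3): generators of `3D4(2):3` -/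
structure RelK {G : Type*} [Group G] (a b c d e s t : G) : Prop where
  a2 : a ^ 2 = 1
  b2 : b ^ 2 = 1
  c2 : c ^ 2 = 1
  d2 : d ^ 2 = 1
  e2 : e ^ 2 = 1
  ab3 : (a * b) ^ 3 = 1
  ae2 : (a * e) ^ 2 = 1
  bc3 : (b * c) ^ 3 = 1
  bd2 : (b * d) ^ 2 = 1
  be2 : (b * e) ^ 2 = 1
  acd : a * (((c * d) ^ 4)⁻¹) = 1
  ce2 : (c * e) ^ 2 = 1
  de3 : (d * e) ^ 3 = 1
  bcde : (b * c * d * e) ^ 8 = 1
  s7 : s ^ 7 = 1
  sa : s⁻¹ * a⁻¹ * s * a = 1
  sb : s⁻¹ * b⁻¹ * s * b = 1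
  sc : s⁻¹ * c⁻¹ * s * c = 1
  sd2 : (s * d) ^ 2 = 1
  es : (e⁻¹ * s⁻¹ * e * s) * (((s ^ 3)⁻¹ * e * (s ^ 3))⁻¹) = 1
  t3 : t ^ 3 = 1
  ta : t⁻¹ * a⁻¹ * t * a = 1
  tb : t⁻¹ * b⁻¹ * t * b = 1
  tc : t⁻¹ * c⁻¹ * t * c = 1
  td : t⁻¹ * d⁻¹ * t * d = 1
  te : t⁻¹ * e⁻¹ * t * e = 1
  st : (t⁻¹ * s * t) * ((s ^ 2)⁻¹) = 1

/-- the relations not involving `b`: generators of `2^{1+8}.A9` -/
structure RelC {G : Type*} [Group G] (a c d e s t u : G) : Prop where
  a2 : a ^ 2 = 1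
  c2 : c ^ 2 = 1
  d2 : d ^ 2 = 1
  e2 : e ^ 2 = 1
  ae2 : (a * e) ^ 2 = 1
  acd : a * (((c * d) ^ 4)⁻¹) = 1
  ce2 : (c * e) ^ 2 = 1
  de3 : (d * e) ^ 3 = 1
  s7 : s ^ 7 = 1
  sa : s⁻¹ * a⁻¹ * s * a = 1
  sc : s⁻¹ * c⁻¹ * s * c = 1
  sd2 : (s * d) ^ 2 = 1
  es : (e⁻¹ * s⁻¹ * e * s) * (((s ^ 3)⁻¹ * e * (s ^ 3))⁻¹) = 1
  t3 : t ^ 3 = 1
  ta : t⁻¹ * a⁻¹ * t * a = 1
  tc : t⁻¹ * c⁻¹ * t * c = 1
  td : t⁻¹ * d⁻¹ * t * d = 1
  te : t⁻¹ * e⁻¹ * t * e = 1
  st : (t⁻¹ * s * t) * ((s ^ 2)⁻¹) = 1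
  u2 : (u ^ 2) * ((a * c)⁻¹) = 1
  ua : u⁻¹ * a⁻¹ * u * a = 1
  uc : u⁻¹ * c⁻¹ * u * c = 1
  ue : u⁻¹ * e⁻¹ * u * e = 1
  dedu : (d * e * (u⁻¹ * d * u)) ^ 2 = 1
  tu : (u⁻¹ * t * u) * ((t⁻¹)⁻¹) = 1
  eus : e⁻¹ * ((s ^ 2)⁻¹ * u * (s ^ 2))⁻¹ * e * ((s ^ 2)⁻¹ * u * (s ^ 2)) = 1
  us3 : (a * c) * (((u * s) ^ 3)⁻¹) = 1
  us4 : (a * c) * (((u⁻¹ * s⁻¹ * u * s) ^ 4)⁻¹) = 1
  dus : ((d * ((s ^ 2)⁻¹ * u * (s ^ 2))) ^ 4) * ((a * c * (d⁻¹ * c * d) * ((d * e * (s⁻¹))⁻¹ * c * (d * e * (s⁻¹))) * ((d * e * (s ^ 2))⁻¹ * c * (d * e * (s ^ 2))))⁻¹) = 1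

/-- all relations of the presented Thompson group -/
structure Rel {G : Type*} [Group G] (a b c d e s t u : G) : Prop where
  K : RelK a b c d e s t
  C : RelC a c d e s t u
  r1 : (u⁻¹ * (b⁻¹ * (a * c) * b)⁻¹ * u * (b⁻¹ * (a * c) * b)) * (e⁻¹) = 1
  r2 : ((d⁻¹ * u * d)⁻¹ * (b⁻¹ * (a * c) * b)⁻¹ * (d⁻¹ * u * d) * (b⁻¹ * (a * c) * b)) * ((u * e * (b⁻¹ * (a * c) * b) * (d⁻¹ * u * d) * e * c)⁻¹) = 1

/-- the generators in the presented group -/
abbrev gen (x : Cfsg.Spor.Th.Gen) : Cfsg.Spor.Th := PresentedGroup.of x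

theorem extra_eq_one (r : FreeGroup Cfsg.Spor.Th.Gen) (h : r ∈ Cfsg.Spor.Th.extra) :
    (PresentedGroup.mk (Cfsg.Spor.coxRelators Cfsg.Spor.Th.edges ∪ {r | r ∈ Cfsg.Spor.Th.extra}) r) = 1 :=
  PresentedGroup.one_of_mem (Or.inr h)

open Cfsg.Spor.Th in
theorem rel_th : Rel (gen .a) (gen .b) (gen .c) (gen .d) (gen .e) (gen .s) (gen .t) (gen .u) := by
  have hx := extra_eq_one
  constructor
  · constructor
    · exact hx (a ^ 2) (by simp only [extra, List.mem_cons, true_or, or_true])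
    · exact hx (b ^ 2) (by simp only [extra, List.mem_cons, true_or, or_true])
    · exact hx (c ^ 2) (by simp only [extra, List.mem_cons, true_or, or_true])
    · exact hx (d ^ 2) (by simp only [extra, List.mem_cons, true_or, or_true])
    · exact hx (e ^ 2) (by simp only [extra, List.mem_cons, true_or, or_true])
    · exact hx ((a * b) ^ 3) (by simp only [extra, List.mem_cons, true_or, or_true])
    · exact hx ((a * e) ^ 2) (by simp only [extra, List.mem_cons, true_or, or_true])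
    · exact hx ((b * c) ^ 3) (by simp only [extra, List.mem_cons, true_or, or_true])
    · exact hx ((b * d) ^ 2) (by simp only [extra, List.mem_cons, true_or, or_true])
    · exact hx ((b * e) ^ 2) (by simp only [extra, List.mem_cons, true_or, or_true])
    · exact hx (a * (((c * d) ^ 4)⁻¹)) (by simp only [extra, List.mem_cons, true_or, or_true])
    · exact hx ((c * e) ^ 2) (by simp only [extra, List.mem_cons, true_or, or_true])
    · exact hx ((d * e) ^ 3) (by simp only [extra, List.mem_cons, true_or, or_true])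
    · exact hx ((b * c * d * e) ^ 8) (by simp only [extra, List.mem_cons, true_or, or_true])
    · exact hx (s ^ 7) (by simp only [extra, List.mem_cons, true_or, or_true])
    · exact hx (s⁻¹ * a⁻¹ * s * a) (by simp only [extra, List.mem_cons, true_or, or_true])
    · exact hx (s⁻¹ * b⁻¹ * s * b) (by simp only [extra, List.mem_cons, true_or, or_true])
    · exact hx (s⁻¹ * c⁻¹ * s * c) (by simp only [extra, List.mem_cons, true_or, or_true])
    · exact hx ((s * d) ^ 2) (by simp only [extra, List.mem_cons, true_or, or_true])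
    · exact hx ((e⁻¹ * s⁻¹ * e * s) * (((s ^ 3)⁻¹ * e * (s ^ 3))⁻¹)) (by simp only [extra, List.mem_cons, true_or, or_true])
    · exact hx (t ^ 3) (by simp only [extra, List.mem_cons, true_or, or_true])
    · exact hx (t⁻¹ * a⁻¹ * t * a) (by simp only [extra, List.mem_cons, true_or, or_true])
    · exact hx (t⁻¹ * b⁻¹ * t * b) (by simp only [extra, List.mem_cons, true_or, or_true])
    · exact hx (t⁻¹ * c⁻¹ * t * c) (by simp only [extra, List.mem_cons, true_or, or_true])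
    · exact hx (t⁻¹ * d⁻¹ * t * d) (by simp only [extra, List.mem_cons, true_or, or_true])
    · exact hx (t⁻¹ * e⁻¹ * t * e) (by simp only [extra, List.mem_cons, true_or, or_true])
    · exact hx ((t⁻¹ * s * t) * ((s ^ 2)⁻¹)) (by simp only [extra, List.mem_cons, true_or, or_true])
  · constructor
    · exact hx (a ^ 2) (by simp only [extra, List.mem_cons, true_or, or_true])
    · exact hx (c ^ 2) (by simp only [extra, List.mem_cons, true_or, or_true])
    · exact hx (d ^ 2) (by simp only [extra, List.mem_cons, true_or, or_true])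
    · exact hx (e ^ 2) (by simp only [extra, List.mem_cons, true_or, or_true])
    · exact hx ((a * e) ^ 2) (by simp only [extra, List.mem_cons, true_or, or_true])
    · exact hx (a * (((c * d) ^ 4)⁻¹)) (by simp only [extra, List.mem_cons, true_or, or_true])
    · exact hx ((c * e) ^ 2) (by simp only [extra, List.mem_cons, true_or, or_true])
    · exact hx ((d * e) ^ 3) (by simp only [extra, List.mem_cons, true_or, or_true])
    · exact hx (s ^ 7) (by simp only [extra, List.mem_cons, true_or, or_true])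
    · exact hx (s⁻¹ * a⁻¹ * s * a) (by simp only [extra, List.mem_cons, true_or, or_true])
    · exact hx (s⁻¹ * c⁻¹ * s * c) (by simp only [extra, List.mem_cons, true_or, or_true])
    · exact hx ((s * d) ^ 2) (by simp only [extra, List.mem_cons, true_or, or_true])
    · exact hx ((e⁻¹ * s⁻¹ * e * s) * (((s ^ 3)⁻¹ * e * (s ^ 3))⁻¹)) (by simp only [extra, List.mem_cons, true_or, or_true])
    · exact hx (t ^ 3) (by simp only [extra, List.mem_cons, true_or, or_true])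
    · exact hx (t⁻¹ * a⁻¹ * t * a) (by simp only [extra, List.mem_cons, true_or, or_true])
    · exact hx (t⁻¹ * c⁻¹ * t * c) (by simp only [extra, List.mem_cons, true_or, or_true])
    · exact hx (t⁻¹ * d⁻¹ * t * d) (by simp only [extra, List.mem_cons, true_or, or_true])
    · exact hx (t⁻¹ * e⁻¹ * t * e) (by simp only [extra, List.mem_cons, true_or, or_true])
    · exact hx ((t⁻¹ * s * t) * ((s ^ 2)⁻¹)) (by simp only [extra, List.mem_cons, true_or, or_true])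
    · exact hx ((u ^ 2) * ((a * c)⁻¹)) (by simp only [extra, List.mem_cons, true_or, or_true])
    · exact hx (u⁻¹ * a⁻¹ * u * a) (by simp only [extra, List.mem_cons, true_or, or_true])
    · exact hx (u⁻¹ * c⁻¹ * u * c) (by simp only [extra, List.mem_cons, true_or, or_true])
    · exact hx (u⁻¹ * e⁻¹ * u * e) (by simp only [extra, List.mem_cons, true_or, or_true])
    · exact hx ((d * e * (u⁻¹ * d * u)) ^ 2) (by simp only [extra, List.mem_cons, true_or, or_true])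
    · exact hx ((u⁻¹ * t * u) * ((t⁻¹)⁻¹)) (by simp only [extra, List.mem_cons, true_or, or_true])
    · exact hx (e⁻¹ * ((s ^ 2)⁻¹ * u * (s ^ 2))⁻¹ * e * ((s ^ 2)⁻¹ * u * (s ^ 2))) (by simp only [extra, List.mem_cons, true_or, or_true])
    · exact hx ((a * c) * (((u * s) ^ 3)⁻¹)) (by simp only [extra, List.mem_cons, true_or, or_true])
    · exact hx ((a * c) * (((u⁻¹ * s⁻¹ * u * s) ^ 4)⁻¹)) (by simp only [extra, List.mem_cons, true_or, or_true])
    · exact hx (((d * ((s ^ 2)⁻¹ * u * (s ^ 2))) ^ 4) * ((a * c * (d⁻¹ * c * d) * ((d * e * (s⁻¹))⁻¹ * c * (d * e * (s⁻¹))) * ((d * e * (s ^ 2))⁻¹ * c * (d * e * (s ^ 2))))⁻¹)) (by simp only [extra, List.mem_cons, true_or, or_true])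
  · exact hx ((u⁻¹ * (b⁻¹ * (a * c) * b)⁻¹ * u * (b⁻¹ * (a * c) * b)) * (e⁻¹)) (by simp only [extra, List.mem_cons, true_or, or_true])
  · exact hx (((d⁻¹ * u * d)⁻¹ * (b⁻¹ * (a * c) * b)⁻¹ * (d⁻¹ * u * d) * (b⁻¹ * (a * c) * b)) * ((u * e * (b⁻¹ * (a * c) * b) * (d⁻¹ * u * d) * e * c)⁻¹)) (by simp only [extra, List.mem_cons, true_or, or_true])

end Cfsg.Agent.Th.Base
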