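import Cfsg.Agent.Th.IndexUpper
import Cfsg.Agent.Th.KFacts
set_option linter.all false

/-!
The centre of the presented Thompson group is trivial, from the cover certificate and the exact index.
-/

set_option autoImplicit false

namespace Cfsg.Agent.Th.CenterTh

open Cfsg.Agent.Th.Base Cfsg.Agent.Th.Word Cfsg.Agent.Th.KOracle Cfsg.Agent.Th.IndexBound
  Cfsg.Agent.Th.IndexUpper Cfsg.Agent.Th.OrbitSum

universe u

variable {G : Type u} [Group G]

/-- the 11 orbits have exactly the expected lengths and are disjoint -/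
theorem exact {γ g : ℕ → G} (hN : Nodes γ g) (hγ : InvCompat γ)
    (h : RelK (γ 1) (γ 2) (γ 3) (γ 4) (γ 5) (γ 6) (γ 8))
    (hgen : sub γ (fun x => isK x || isC x) = ⊤) (hind : (sub γ isK).index = 143127000) :
    (∀ i : Fin 11, Nat.card (orb (sub γ isK) γ (g i)) = bN i) ∧
      ∀ (i j : Fin 11) (x), x ∈ orb (sub γ isK) γ (g i) → x ∈ orb (sub γ isK) γ (g j) → i = j := by
  have hfin : Finite (G ⧸ sub γ isK) := by
    apply Nat.finite_of_card_ne_zero
    change (sub γ isK).index ≠ 0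
    rw [hind]; norm_num
  refine exact_of_cover (fun i : Fin 11 => orb (sub γ isK) γ (g i)) (fun i => bN i) ?_ ?_ ?_
  · intro x
    have hx : x ∈ (Set.univ : Set (G ⧸ sub γ isK)) := Set.mem_univ x
    rw [hN.univ hγ hgen] at hx
    obtain ⟨i, hi, hx⟩ := Set.mem_iUnion₂.mp hx
    exact ⟨⟨i, Finset.mem_range.mp hi⟩, hx⟩
  · intro i
    rw [Nat.card_coe_set_eq]
    exact (hN.orbits hγ h i i.2).2
  · change ∑ i : Fin 11, bN i ≤ (sub γ isK).index
    rw [hind]
    decide +kernel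

/-- central elements are trivial -/
theorem center_eq_bot {γ g : ℕ → G} (hN : Nodes γ g) (hγ : InvCompat γ)
    (h : RelK (γ 1) (γ 2) (γ 3) (γ 4) (γ 5) (γ 6) (γ 8))
    (hgen : sub γ (fun x => isK x || isC x) = ⊤) (hind : (sub γ isK).index = 143127000)
    (hcard : Nat.card (sub γ isK) = 634023936) : Subgroup.center G = ⊥ := by
  obtain ⟨h1, h2⟩ := exact hN hγ h hgen hind
  rw [eq_bot_iff]
  intro z hz
  have hzc : ∀ y, y * z = z * y := Subgroup.mem_center_iff.mp hz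
  have hx : pt (sub γ isK) z ∈ (Set.univ : Set (G ⧸ sub γ isK)) := Set.mem_univ _
  rw [hN.univ hγ hgen] at hx
  obtain ⟨i, hi, hx⟩ := Set.mem_iUnion₂.mp hx
  have hi := Finset.mem_range.mp hi
  obtain ⟨k, hk, hzk⟩ := hx
  -- the orbit is a point
  have hO : orb (sub γ isK) γ (g i) ⊆ {pt (sub γ isK) z} := by
    rintro x ⟨k', hk', rfl⟩
    rw [Set.mem_singleton_iff, pt_eq_iff]
    rw [pt_eq_iff] at hzk
    -- g i * k' = (g i * k) * (k⁻¹ * k')
    have h3 : z * (g i * k)⁻¹ ∈ sub γ isK := hzk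
    show g i * k' * z⁻¹ ∈ sub γ isK
    have e : g i * k' * z⁻¹ = (z * (g i * k)⁻¹)⁻¹ * (k⁻¹ * k') := by
      have hz' := hzc (k⁻¹ * k' * z⁻¹)
      calc g i * k' * z⁻¹ = (g i * k) * (k⁻¹ * k' * z⁻¹) := by group
        _ = (z * (g i * k)⁻¹)⁻¹ * (z * (k⁻¹ * k' * z⁻¹)) := by group
        _ = (z * (g i * k)⁻¹)⁻¹ * (k⁻¹ * k' * z⁻¹ * z) := by rw [hz']
        _ = (z * (g i * k)⁻¹)⁻¹ * (k⁻¹ * k') := by group
    rw [e]
    exact Subgroup.mul_mem _ (Subgroup.inv_mem _ h3) (Subgroup.mul_mem _ (Subgroup.inv_mem _ hk) hk')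
  have hc : bN i ≤ 1 := by
    rw [← h1 ⟨i, hi⟩, Nat.card_coe_set_eq]
    have := Set.ncard_le_ncard hO (Set.finite_singleton _)
    rwa [Set.ncard_singleton] at this
  have hi0 : i = 0 := by
    interval_cases i
    · rfl
    all_goals exact absurd hc (by decide)
  subst hi0
  rw [hN.g0, one_mul, pt_eq_iff] at hzk
  have h3 : z * k⁻¹ ∈ sub γ isK := hzk
  have hzK : z ∈ sub γ isK := by
    have := Subgroup.mul_mem _ h3 hk
    rwa [inv_mul_cancel_right] at this
  rw [Subgroup.mem_bot]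
  exact KFacts.eq_one_of_central hγ h hcard hzK fun x _ => (hzc (γ x)).symm

/-- the centre of the presented Thompson group -/
theorem center_Th {g : ℕ → Cfsg.Spor.Th} (hN : Nodes gTh g)
    (hlow : Finite Cfsg.Spor.Th → 90745943887872000 ≤ Nat.card Cfsg.Spor.Th) :
    Subgroup.center Cfsg.Spor.Th = ⊥ := by
  obtain ⟨_, _, h1, h2⟩ := final hN hlow
  exact center_eq_bot hN gTh_inv gTh_relK gTh_top h2 h1

end Cfsg.Agent.Th.CenterTh
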