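/-
The presented Thompson group maps to the Chevalley group E8(3): `f : Cfsg.Spor.Th →* chevE8.group (ZMod 3)`, not trivial.
-/
import Cfsg.Agent.Th.E8Run
import Cfsg.Agent.Th.Hom248
set_option linter.all false

-- part: Th/E8Check
section
set_option autoImplicit false
set_option maxRecDepth 100000

namespace Cfsg.Agent.Th.E8Check

open Cfsg.Agent.Th.MatEngine Cfsg.Agent.Th.Words248 Cfsg.Agent.Th.Gen248 Cfsg.Agent.Th.E8Data Cfsg.Agent.Th.E8Run

/-- change of basis, packed -/
noncomputable def tN : ℕ := expd tLit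

/-- inverse change of basis, packed -/
noncomputable def tiN : ℕ := expd tiLit

theorem okT : Ok tN := ok_of (by decide +kernel) (by decide +kernel) (by decide +kernel)
theorem okTi : Ok tiN := ok_of (by decide +kernel) (by decide +kernel) (by decide +kernel)
theorem invT : Nat.beq (mul tN tiN) idm = true := by decide +kernel

theorem chk_a : chk w_a tiN (mul tiN (pm .a)) = true := by decide +kernel
theorem chk_c : chk w_c tiN (mul tiN (pm .c)) = true := by decide +kernel
theorem chk_d : chk w_d tiN (mul tiN (pm .d)) = true := by decide +kernel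
theorem chk_e : chk w_e tiN (mul tiN (pm .e)) = true := by decide +kernel

theorem lt_a : ∀ a ∈ w_a, a < 480 := by decide +kernel
theorem lt_c : ∀ a ∈ w_c, a < 480 := by decide +kernel
theorem lt_d : ∀ a ∈ w_d, a < 480 := by decide +kernel
theorem lt_e : ∀ a ∈ w_e, a < 480 := by decide +kernel

theorem ne_a : Nat.beq (pm .a) idm = false := by decide +kernel

end Cfsg.Agent.Th.E8Check
end

-- part: Th/E8CheckB
section
set_option autoImplicit false
set_option maxRecDepth 100000

namespace Cfsg.Agent.Th.E8CheckB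

open Cfsg.Agent.Th.MatEngine Cfsg.Agent.Th.Words248 Cfsg.Agent.Th.Gen248 Cfsg.Agent.Th.E8Data Cfsg.Agent.Th.E8Run
open Cfsg.Agent.Th.E8Check

theorem chk_b : chk w_b tiN (mul tiN (pm .b)) = true := by decide +kernel
theorem chk_s : chk w_s tiN (mul tiN (pm .s)) = true := by decide +kernel
theorem chk_t : chk w_t tiN (mul tiN (pm .t)) = true := by decide +kernel
theorem chk_u : chk w_u tiN (mul tiN (pm .u)) = true := by decide +kernel

theorem lt_b : ∀ a ∈ w_b, a < 480 := by decide +kernel
theorem lt_s : ∀ a ∈ w_s, a < 480 := by decide +kernel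
theorem lt_t : ∀ a ∈ w_t, a < 480 := by decide +kernel
theorem lt_u : ∀ a ∈ w_u, a < 480 := by decide +kernel

end Cfsg.Agent.Th.E8CheckB
end

-- part: Th/E8Hom
section
set_option autoImplicit false

namespace Cfsg.Agent.Th.E8Hom

open Cfsg.Lie Cfsg.Agent.Th.MatEngine Cfsg.Agent.Th.Words248 Cfsg.Agent.Th.Gen248 Cfsg.Agent.Th.Hom248
open Cfsg.Agent.Th.E8Recipe Cfsg.Agent.Th.E8Data Cfsg.Agent.Th.E8Run Cfsg.Agent.Th.E8Check Cfsg.Agent.Th.E8CheckB

/-- change of basis as an element of GL(248, 3) -/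
noncomputable def tG : GL (Fin 248) (ZMod 3) :=
  ⟨mat tN, mat tiN, mat_inv_of okT okTi invT, mat_comm_one (mat_inv_of okT okTi invT)⟩

/-- renaming of coordinates -/
noncomputable def ren : GL chevE8.Idx (ZMod 3) ≃* GL (Fin 248) (ZMod 3) :=
  Units.mapEquiv (Matrix.reindexRingEquiv (ZMod 3) eqv.symm).toMulEquiv

theorem ren_val (A : GL chevE8.Idx (ZMod 3)) :
    (ren A : Matrix (Fin 248) (Fin 248) (ZMod 3)) = (A : Matrix chevE8.Idx chevE8.Idx (ZMod 3)).submatrix eqv eqv := rfl

theorem submatrix_prod (w : List ℕ) :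
    ((w.map fun a => chevE8.xMat (ZMod 3) ((letter a).1 : Fin chevE8.nroots) (letter a).2).prod).submatrix eqv eqv =
      (w.map fun a => xm (letter a).1 (letter a).2).prod := by
  induction w with
  | nil =>
    rw [List.map_nil, List.map_nil, List.prod_nil, List.prod_nil]
    exact Matrix.submatrix_one_equiv eqv
  | cons a w ih =>
    rw [List.map_cons, List.map_cons, List.prod_cons, List.prod_cons, ← ih]
    exact (Matrix.submatrix_mul_equiv _ _ eqv eqv eqv).symm

/-- the word of a generator lands in the Chevalley group -/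
theorem mem_of_check {l : Lt} {w : List ℕ} (hw : ∀ a ∈ w, a < 480)
    (h : chk w tiN (mul tiN (pm l)) = true) : ren.symm (tG⁻¹ * gl l * tG) ∈ chevE8.group (ZMod 3) := by
  have h1 := chk_spec hw okTi h
  rw [(mul_spec okTi (ok_pm l)).2] at h1
  have h4 : (tG⁻¹ * gl l * tG : GL (Fin 248) (ZMod 3)).val = (w.map fun a => xm (letter a).1 (letter a).2).prod := by
    have e : ((tG⁻¹ * gl l : GL (Fin 248) (ZMod 3)) : Matrix (Fin 248) (Fin 248) (ZMod 3)) =
        (w.map fun a => xm (letter a).1 (letter a).2).prod * ((tG⁻¹ : GL (Fin 248) (ZMod 3)) : Matrix (Fin 248) (Fin 248) (ZMod 3)) := h1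
    rw [Units.val_mul, e, mul_assoc, Units.inv_mul, mul_one]
  apply mem_group_of_prod (w.map fun a => (((letter a).1 : Fin chevE8.nroots), (letter a).2))
  rw [List.map_map]
  have h5 : ((ren.symm (tG⁻¹ * gl l * tG) : GL chevE8.Idx (ZMod 3)) :
      Matrix chevE8.Idx chevE8.Idx (ZMod 3)).submatrix eqv eqv =
      ((w.map fun a => chevE8.xMat (ZMod 3) ((letter a).1 : Fin chevE8.nroots) (letter a).2).prod).submatrix eqv eqv := by
    rw [submatrix_prod, ← ren_val, MulEquiv.apply_symm_apply, h4]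
  have hinj : Function.Injective
      (fun A : Matrix chevE8.Idx chevE8.Idx (ZMod 3) => A.submatrix eqv eqv) := by
    intro A B hAB
    exact (Matrix.reindex eqv.symm eqv.symm).injective hAB
  exact hinj h5

theorem mem_gen (x : Cfsg.Spor.Th.Gen) : ren.symm (tG⁻¹ * gen x * tG) ∈ chevE8.group (ZMod 3) := by
  cases x
  · exact mem_of_check lt_a chk_a
  · exact mem_of_check lt_b chk_b
  · exact mem_of_check lt_c chk_c
  · exact mem_of_check lt_d chk_d
  · exact mem_of_check lt_e chk_e
  · exact mem_of_check lt_s chk_s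
  · exact mem_of_check lt_t chk_t
  · exact mem_of_check lt_u chk_u

/-- the representation in the Chevalley basis -/
noncomputable def f0 : Cfsg.Spor.Th →* GL chevE8.Idx (ZMod 3) :=
  ren.symm.toMonoidHom.comp ((MulAut.conj tG⁻¹).toMonoidHom.comp rho)

theorem f0_apply (g : Cfsg.Spor.Th) : f0 g = ren.symm (tG⁻¹ * rho g * tG) := by
  change ren.symm (tG⁻¹ * rho g * (tG⁻¹)⁻¹) = _
  rw [inv_inv]

theorem f0_mem (g : Cfsg.Spor.Th) : f0 g ∈ chevE8.group (ZMod 3) := by
  have h : (⊤ : Subgroup Cfsg.Spor.Th) ≤ (chevE8.group (ZMod 3)).comap f0 := by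
    rw [← PresentedGroup.closure_range_of]
    rw [Subgroup.closure_le]
    rintro _ ⟨x, rfl⟩
    change f0 _ ∈ chevE8.group (ZMod 3)
    rw [f0_apply, rho_of]
    exact mem_gen x
  exact h (Subgroup.mem_top g)

/-- the Thompson group in E8(3) -/
noncomputable def f : Cfsg.Spor.Th →* chevE8.group (ZMod 3) := f0.codRestrict _ f0_mem

theorem coe_f (g : Cfsg.Spor.Th) : ((f g : chevE8.group (ZMod 3)) : GL chevE8.Idx (ZMod 3)) = f0 g := rfl

theorem beq_self (n : ℕ) : Nat.beq n n = true := Nat.beq_refl n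

theorem f_ne_one : f (PresentedGroup.of Cfsg.Spor.Th.Gen.a) ≠ 1 := by
  intro h
  have h1 : f0 (PresentedGroup.of Cfsg.Spor.Th.Gen.a) = 1 := by
    rw [← coe_f, h]
    exact Subgroup.coe_one _
  rw [f0_apply, rho_of] at h1
  have h2 : tG⁻¹ * gen Cfsg.Spor.Th.Gen.a * tG = 1 := by
    have := congrArg ren h1
    rw [MulEquiv.apply_symm_apply, map_one] at this
    exact this
  have h3 : gen Cfsg.Spor.Th.Gen.a = 1 := by
    have e : gen Cfsg.Spor.Th.Gen.a = tG * (tG⁻¹ * gen Cfsg.Spor.Th.Gen.a * tG) * tG⁻¹ := by group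
    rw [e, h2]; group
  have h4 : mat (pm .a) = 1 := congrArg Units.val h3
  have h5 : pm .a = idm := mat_injective (ok_pm .a) idm_spec.1 (h4.trans idm_spec.2.symm)
  have h6 := ne_a
  rw [h5] at h6
  exact Bool.noConfusion (h6.symm.trans (beq_self idm))

/-- a finite simple group isomorphic to the presented Thompson group embeds in E8(3) -/
theorem embeds {G : Type*} [Group G] [IsSimpleGroup G] (h : Cfsg.Spor.IsoTh G) :
    ∃ φ : G →* chevE8.group (ZMod 3), Function.Injective φ := by
  obtain ⟨e⟩ := h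
  refine ⟨f.comp e.toMonoidHom, ?_⟩
  rw [← MonoidHom.ker_eq_bot_iff]
  rcases (IsSimpleGroup.eq_bot_or_eq_top_of_normal (f.comp e.toMonoidHom).ker inferInstance) with h | h
  · exact h
  · exfalso
    have h1 : e.symm (PresentedGroup.of Cfsg.Spor.Th.Gen.a) ∈ (f.comp e.toMonoidHom).ker := by
      rw [h]; trivial
    rw [MonoidHom.mem_ker] at h1
    apply f_ne_one
    have h2 : (f.comp e.toMonoidHom) (e.symm (PresentedGroup.of Cfsg.Spor.Th.Gen.a)) =
        f (PresentedGroup.of Cfsg.Spor.Th.Gen.a) := by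
      change f (e (e.symm _)) = _
      rw [MulEquiv.apply_symm_apply]
    rw [← h2]
    exact h1

end Cfsg.Agent.Th.E8Hom
end
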