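import Cfsg.Agent.Th.PathCover
import Cfsg.Agent.Th.COracleSound
import Cfsg.Agent.Th.TabFacts
set_option linter.all false

-- part: Th/FactCheck
section
/-!
# Checking the facts of the Thompson certificate

The oracle `orc2 w v` reduces `w v⁻¹` freely and applies the K-oracle or the C-oracle.  `check2` checks one proof
(two paths from a common start frame whose total words differ by nothing, by `r1` or by `r2`).
-/

set_option autoImplicit false

namespace Cfsg.Agent.Th.FactCheck

open Cfsg.Agent.Th.Base (RelK RelC)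
open Cfsg.Agent.Th.Word Cfsg.Agent.Th.KOracle Cfsg.Agent.Th.COracleDef Cfsg.Agent.Th.COracleSound
open Cfsg.Agent.Th.PathCover (unl ev_unl letters_of_invCompat)
open Cfsg.Agent.Lib.PathCheck (Tree Fact Holds cat winv len Letters run St run_sound)

universe u

variable {G : Type u} [Group G]

/-- free reduction -/
def redu (w : List ℕ) : List ℕ :=
  List.rec [] (fun x _ ih => List.rec [x] (fun y r _ => Bool.rec (x :: y :: r) r (Nat.beq y (invL x))) ih) w

theorem redu_cons (x : ℕ) (w : List ℕ) : redu (x :: w) =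
    List.rec [x] (fun y r _ => Bool.rec (x :: y :: r) r (Nat.beq y (invL x))) (redu w) := rfl

theorem ev_redu {γ : ℕ → G} (hγ : InvCompat γ) (w : List ℕ) : ev γ (redu w) = ev γ w := by
  induction w with
  | nil => rfl
  | cons x w ih =>
    rw [redu_cons, ev_cons, ← ih]
    cases hr : redu w with
    | nil => simp
    | cons y r =>
      show ev γ (Bool.rec (x :: y :: r) r (Nat.beq y (invL x))) = _
      cases hb : Nat.beq y (invL x) with
      | false => rfl
      | true =>
        have : y = invL x := Nat.eq_of_beq_eq_true hb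
        show ev γ r = γ x * (γ y * ev γ r)
        rw [this, hγ x]
        group

/-- inverse word, with accumulator and forced letters -/
def iwr (w : List ℕ) : List ℕ → List ℕ :=
  List.rec (fun acc => acc) (fun x _ ih acc => frc (invL x) fun y => ih (y :: acc)) w

theorem iwr_eq (w acc : List ℕ) : iwr w acc = iw w ++ acc := by
  induction w generalizing acc with
  | nil => rfl
  | cons x w ih =>
    show frc (invL x) (fun y => iwr w (y :: acc)) = _
    rw [frc_eq, ih, iw_cons]
    simp

/-- unpack with forced letters -/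
def unq (fuel : ℕ) : ℕ → List ℕ :=
  Nat.rec (fun _ => [])
    (fun _ ih w => Bool.rec (frc (Nat.land w 15) fun x => x :: ih (Nat.div w 16)) [] (Nat.beq w 0)) fuel

theorem unq_eq (fuel w : ℕ) : unq fuel w = unp fuel w := by
  induction fuel generalizing w with
  | zero => rfl
  | succ n ih =>
    have e1 : unq (n + 1) w = Bool.rec (frc (Nat.land w 15) fun x => x :: unq n (Nat.div w 16)) []
        (Nat.beq w 0) := rfl
    have e2 : unp (n + 1) w = Bool.rec (Nat.land w 15 :: unp n (Nat.div w 16)) [] (Nat.beq w 0) := rfl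
    rw [e1, e2, frc_eq, ih]

/-- unpack -/
def unf (w : ℕ) : List ℕ := unq (len w) w

theorem unf_eq (w : ℕ) : unf w = unl w := unq_eq _ _

/-- the oracle on lists -/
def orcL (q : List ℕ) : Bool := Bool.rec (corc q) true (korc q)

/-- the oracle -/
def orc2 (w v : ℕ) : Bool := orcL (redu (unf w ++ iwr (unf v) []))

/-- the hypotheses on the letters -/
structure Ctx (γ : ℕ → G) : Prop where
  inv : InvCompat γ
  zero : γ 0 = 1
  K : RelK (γ 1) (γ 2) (γ 3) (γ 4) (γ 5) (γ 6) (γ 8)
  C : RelC (γ 1) (γ 3) (γ 4) (γ 5) (γ 6) (γ 8) (γ 10)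

theorem orcL_sound {γ : ℕ → G} (h : Ctx γ) (q : List ℕ) (hq : orcL q = true) : ev γ q = 1 := by
  unfold orcL at hq
  cases hk : korc q with
  | true => exact korc_sound Cfsg.Agent.Th.TabFacts.boundK h.inv h.K hk
  | false =>
    rw [hk] at hq
    exact corc_sound h.inv h.C hq

theorem orc2_sound {γ : ℕ → G} (h : Ctx γ) (w v : ℕ) (hq : orc2 w v = true) :
    Cfsg.Agent.Lib.PathCheck.ev γ w = Cfsg.Agent.Lib.PathCheck.ev γ v := by
  have h1 := orcL_sound h _ hq
  rw [ev_redu h.inv, ev_append, iwr_eq, List.append_nil, ev_iw h.inv, unf_eq, unf_eq, ev_unl, ev_unl] at h1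
  exact mul_inv_eq_one.mp h1

/-- the relator words `r1 = bacb u bacb e U`, `r2 = bacb dud bacb cedUd bacb eUdUd` -/
def r1w : List ℕ := [2, 1, 3, 2, 10, 2, 1, 3, 2, 5, 11]
/-- see `r1w` -/
def r2w : List ℕ := [2, 1, 3, 2, 4, 10, 4, 2, 1, 3, 2, 3, 5, 4, 11, 4, 2, 1, 3, 2, 5, 11, 4, 11, 4]

/-- equality of lists of numbers -/
def beqL (v : List ℕ) : List ℕ → Bool :=
  List.rec (fun w => List.rec true (fun _ _ _ => false) w)
    (fun x _ ih w => List.rec false (fun y w' _ => Bool.rec false (ih w') (Nat.beq x y)) w) v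

theorem beqL_iff (v w : List ℕ) : beqL v w = true ↔ v = w := by
  induction v generalizing w with
  | nil => cases w with
    | nil => simp [beqL]
    | cons y w => simp [beqL]
  | cons x v ih =>
    cases w with
    | nil => simp [beqL]
    | cons y w =>
      show (Bool.rec false (beqL v w) (Nat.beq x y) : Bool) = true ↔ _
      cases hb : Nat.beq x y with
      | true =>
        have : x = y := Nat.eq_of_beq_eq_true hb
        subst this
        show beqL v w = true ↔ _
        rw [ih]
        simp
      | false =>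
        have : x ≠ y := fun h => by
          rw [h, Nat.beq_refl] at hb
          exact absurd hb (by simp)
        simp [this]

/-- total words: `p1 p2⁻¹` is freely trivial (`0`), `r1`, `r2` or the inverse of them -/
def tot2 (r : ℕ) (p1 p2 : ℕ) : Bool :=
  beqL (redu (unf p1 ++ iwr (unf p2) []))
    (Nat.rec [] (fun r1 _ => Nat.rec r1w (fun r2 _ => Nat.rec (iw r1w) (fun r3 _ => Nat.rec r2w
      (fun _ _ => iw r2w) r3) r2) r1) r)

/-- a proof of a fact -/
structure Prf where
  /-- start node -/
  n0 : ℕ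
  /-- start word -/
  w0 : ℕ
  /-- kind of the difference of the total words -/
  r : ℕ
  /-- first path -/
  p1 : List ℕ
  /-- second path -/
  p2 : List ℕ

/-- frame = (n, w) -/
def frm (s : St) (n w : ℕ) : Bool := and (Nat.beq s.n n) (Nat.beq s.w w)

/-- check a proof of fact number `k` -/
def check2 (tab : ℕ → Fact) (k : ℕ) (p : Prf) : Bool :=
  Option.rec false (fun s1 => Option.rec false (fun s2 =>
    and (tot2 p.r s1.p s2.p)
      (or (and (frm s1 (tab k).n1 (tab k).w1) (frm s2 (tab k).n2 (tab k).w2))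
        (and (frm s1 (tab k).n2 (tab k).w2) (frm s2 (tab k).n1 (tab k).w1))))
    (run invL (fun _ w v => orc2 w v) tab k p.p2 ⟨p.n0, p.w0, 0⟩))
    (run invL (fun _ w v => orc2 w v) tab k p.p1 ⟨p.n0, p.w0, 0⟩)

/-- hypotheses including the two relators -/
structure Ctx2 (γ : ℕ → G) : Prop extends Ctx γ where
  r1 : ev γ r1w = 1
  r2 : ev γ r2w = 1

theorem tot2_sound {γ : ℕ → G} (h : Ctx2 γ) (r p1 p2 : ℕ) (ht : tot2 r p1 p2 = true) :
    Cfsg.Agent.Lib.PathCheck.ev γ p1 = Cfsg.Agent.Lib.PathCheck.ev γ p2 := by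
  have h1 := (beqL_iff _ _).mp ht
  have h2 : ev γ (redu (unf p1 ++ iwr (unf p2) [])) = 1 := by
    rw [h1]
    match r with
    | 0 => rfl
    | 1 => exact h.r1
    | 2 =>
      show ev γ (iw r1w) = 1
      rw [ev_iw h.inv, h.r1, inv_one]
    | 3 => exact h.r2
    | n + 4 =>
      show ev γ (iw r2w) = 1
      rw [ev_iw h.inv, h.r2, inv_one]
  rw [ev_redu h.inv, ev_append, iwr_eq, List.append_nil, ev_iw h.inv, unf_eq, unf_eq, ev_unl, ev_unl] at h2
  exact mul_inv_eq_one.mp h2

theorem check2_sound {γ : ℕ → G} (h : Ctx2 γ) {H : Subgroup G} {g : ℕ → G} {tab : ℕ → Fact} {k : ℕ}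
    (htab : ∀ i < k, Holds H γ g (tab i)) (p : Prf) (hp : check2 tab k p = true) :
    Holds H γ g (tab k) := by
  have hL : Letters γ invL := letters_of_invCompat h.inv h.zero
  have horc : ∀ n w v : ℕ, (fun _ w v => orc2 w v : ℕ → ℕ → ℕ → Bool) n w v = true →
      Cfsg.Agent.Lib.PathCheck.ev γ w = Cfsg.Agent.Lib.PathCheck.ev γ v :=
    fun _ w v hq => orc2_sound h.toCtx w v hq
  unfold check2 at hp
  cases e1 : run invL (fun _ w v => orc2 w v) tab k p.p1 ⟨p.n0, p.w0, 0⟩ with
  | none => rw [e1] at hp; exact absurd hp (by simp)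
  | some s1 =>
    cases e2 : run invL (fun _ w v => orc2 w v) tab k p.p2 ⟨p.n0, p.w0, 0⟩ with
    | none => rw [e1, e2] at hp; exact absurd hp (by simp)
    | some s2 =>
      rw [e1, e2] at hp
      have hp' : and (tot2 p.r s1.p s2.p)
        (or (and (frm s1 (tab k).n1 (tab k).w1) (frm s2 (tab k).n2 (tab k).w2))
          (and (frm s1 (tab k).n2 (tab k).w2) (frm s2 (tab k).n1 (tab k).w1))) = true := hp
      rw [Bool.and_eq_true, Bool.or_eq_true, Bool.and_eq_true, Bool.and_eq_true] at hp'
      obtain ⟨ht, he⟩ := hp'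
      have r1 := run_sound hL horc htab (g p.n0 * Cfsg.Agent.Lib.PathCheck.ev γ p.w0) _ _ _ e1
        (by simpa using Cfsg.Agent.Lib.PathCheck.Rel.refl H _)
      have r2 := run_sound hL horc htab (g p.n0 * Cfsg.Agent.Lib.PathCheck.ev γ p.w0) _ _ _ e2
        (by simpa using Cfsg.Agent.Lib.PathCheck.Rel.refl H _)
      rw [tot2_sound h _ _ _ ht] at r1
      have r := Cfsg.Agent.Lib.PathCheck.Rel.trans r1 (Cfsg.Agent.Lib.PathCheck.Rel.symm r2)
      have fr : ∀ (s : St) (n w : ℕ), frm s n w = true → s.n = n ∧ s.w = w := by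
        intro s n w hs
        unfold frm at hs
        rw [Bool.and_eq_true] at hs
        exact ⟨Nat.eq_of_beq_eq_true hs.1, Nat.eq_of_beq_eq_true hs.2⟩
      rcases he with ⟨a, b⟩ | ⟨a, b⟩
      · obtain ⟨a1, a2⟩ := fr _ _ _ a
        obtain ⟨b1, b2⟩ := fr _ _ _ b
        rw [a1, a2, b1, b2] at r
        exact r
      · obtain ⟨a1, a2⟩ := fr _ _ _ a
        obtain ⟨b1, b2⟩ := fr _ _ _ b
        rw [a1, a2, b1, b2] at r
        exact Cfsg.Agent.Lib.PathCheck.Rel.symm r

/-- check a list of proofs for the facts `k, k+1, …` -/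
def checkL (tab : ℕ → Fact) (l : List Prf) : ℕ → Bool :=
  List.rec (fun _ => true) (fun p _ ih k => Bool.rec false (ih (Nat.succ k)) (check2 tab k p)) l

theorem checkL_sound {γ : ℕ → G} (h : Ctx2 γ) {H : Subgroup G} {g : ℕ → G} {tab : ℕ → Fact} (l : List Prf)
    (k : ℕ) (htab : ∀ i < k, Holds H γ g (tab i)) (hl : checkL tab l k = true) :
    ∀ i < k + l.length, Holds H γ g (tab i) := by
  induction l generalizing k with
  | nil => simpa using htab
  | cons p l ih =>
    have hl' : (Bool.rec false (checkL tab l (k + 1)) (check2 tab k p) : Bool) = true := hl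
    cases hc : check2 tab k p with
    | false => rw [hc] at hl'; exact absurd hl' (by simp)
    | true =>
      rw [hc] at hl'
      have hk := check2_sound h htab p hc
      have := ih (k + 1) (fun i hi => by
        rcases Nat.lt_succ_iff_lt_or_eq.mp hi with hi | rfl
        · exact htab i hi
        · exact hk) hl'
      intro i hi
      apply this
      simp only [List.length_cons] at hi
      omega

/-- one step of the chain of checks -/
theorem step {γ : ℕ → G} (h : Ctx2 γ) {H : Subgroup G} {g : ℕ → G} {tab : ℕ → Fact} (l : List Prf)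
    (k n m : ℕ) (hn : l.length = n) (hm : k + n = m) (hl : checkL tab l k = true)
    (htab : ∀ i < k, Holds H γ g (tab i)) : ∀ i < m, Holds H γ g (tab i) := by
  rw [← hm, ← hn]
  exact checkL_sound h l k htab hl

end Cfsg.Agent.Th.FactCheck
end

-- part: Th/FactData
section
/-!
# The facts of the Thompson certificate (data)

Generated from `tools/th/cert/cert.txt` (helper950).  Fact = `(n1, w1, n2, w2)`: `H g_{n1} w1 = H g_{n2} w2`; nodes
0..10 are the K-nodes, 11..23 the C-nodes.
-/

set_option autoImplicit false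

namespace Cfsg.Agent.Th.FactData

open Cfsg.Agent.Lib.PathCheck (Fact)

/-- trees of facts -/
abbrev TF : Type := Cfsg.Agent.Lib.PathCheck.Tree Fact

/-- subtree 0: facts with index congruent to 0 mod 8 -/
def sub0 : TF :=
  .node
   (.node
    (.node
     (.node
      (.node
       (.node
        (.leaf ⟨0, 1, 0, 0⟩)
        (.leaf ⟨10, 0x213432543268, 19, 0x77a93456345734534316564⟩))
       (.node
        (.leaf ⟨4, 0x21324321, 13, 0x4a4a56563453435645784⟩)
        (.leaf ⟨9, 0x2343254321, 19, 0x6a7a4a45743456345343856454⟩)))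
      (.node
       (.node
        (.leaf ⟨14, 0x96453435684, 14, 0⟩)
        (.leaf ⟨9, 0x213432543756, 22, 0xa4a7856345734534387566456⟩))
       (.node
        (.leaf ⟨9, 0x213243566, 20, 0x8a64a864563456345343864564574⟩)
        (.leaf ⟨9, 0x234321543275, 17, 0x94a64a45757345734534366574574⟩))))
     (.node
      (.node
       (.node
        (.leaf ⟨11, 4, 11, 0⟩)
        (.leaf ⟨9, 0x234321543247, 22, 0x6a754a86456345634534395645⟩))
       (.node
        (.leaf ⟨9, 0x213243, 13, 0xa4a64568345734534375665⟩)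
        (.leaf ⟨7, 0x213435466, 21, 0x8a64a956456345634534365694574⟩)))
      (.node
       (.node
        (.leaf ⟨10, 0, 13, 0xa664534379⟩)
        (.leaf ⟨9, 0x2343254326577, 23, 0x7a7577345634534357⟩))
       (.node
        (.leaf ⟨4, 0x345343954, 4, 0⟩)
        (.leaf ⟨9, 0x21343215432658, 18, 0x77a4a8645634573453431684564⟩)))))
    (.node
     (.node
      (.node
       (.node
        (.leaf ⟨5, 0, 14, 0xa31784⟩)
        (.leaf ⟨9, 0x213432547, 22, 0x86a7a4a74569345634534397577457⟩))
       (.node
        (.leaf ⟨9, 0x2343254368, 22, 0x96a73456345634534374568454⟩)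
        (.leaf ⟨6, 0x2343254326565, 19, 0xa457573457345343175645⟩)))
      (.node
       (.node
        (.leaf ⟨10, 0x75773456345343665745774, 10, 0⟩)
        (.leaf ⟨9, 0x234321543657, 23, 0x96a73456345734534369574565⟩))
       (.node
        (.leaf ⟨10, 0x2343215, 22, 0x94a74a753431456656⟩)
        (.leaf ⟨9, 0x2134325432654, 18, 0x6564a634534386456457⟩))))
     (.node
      (.node
       (.node
        (.leaf ⟨12, 3, 12, 0⟩)
        (.leaf ⟨9, 0x2134354375497, 22, 0x574a75436865645⟩))
       (.node
        (.leaf ⟨9, 0x234321547, 23, 0x66a965745343457845⟩)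
        (.leaf ⟨9, 0x23435432757, 21, 0x4a6a4a96345634563453439657457⟩)))
      (.node
       (.node
        (.leaf ⟨3, 0, 12, 0x8a64a9745734534364569454⟩)
        (.leaf ⟨9, 0x2343215437575, 23, 0x964a8573453431684565⟩))
       (.node
        (.leaf ⟨9, 0x23432157, 22, 0x65a64a56456345343165745684⟩)
        (.leaf ⟨5, 0x6457345343256456345734534379457454, 5, 0⟩))))))
   (.node
    (.node
     (.node
      (.node
       (.node
        (.leaf ⟨1, 0, 11, 0xa4a7856457345343785645784⟩)
        (.leaf ⟨9, 0x2343543268, 22, 0x87564a963456345634534368⟩))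
       (.node
        (.leaf ⟨5, 0x213243, 14, 0x65754a574534318745774⟩)
        (.leaf ⟨9, 0x234325437569, 23, 0x774a4a6345734534317577457⟩)))
      (.node
       (.node
        (.leaf ⟨5, 0x75773456345343665745774, 5, 0⟩)
        (.leaf ⟨8, 0x23432546569, 23, 0xa7a64a845734563453439454⟩))
       (.node
        (.leaf ⟨9, 0x23432543, 20, 0x78564a6456345343175745774⟩)
        (.leaf ⟨9, 0x2343215477, 18, 0x96a6957345343568456⟩))))
     (.node
      (.node
       (.node
        (.leaf ⟨1, 0x34579345734534368564575, 1, 0⟩)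
        (.leaf ⟨9, 0x234354375439, 22, 0x974a4a66345343457574⟩))
       (.node
        (.leaf ⟨3, 0x213243578, 14, 0x96a16577⟩)
        (.leaf ⟨9, 0x23432154368, 21, 0x68a74a6845634534318645784⟩)))
      (.node
       (.node
        (.leaf ⟨3, 0x213245, 13, 0x77a94563457345343175745694⟩)
        (.leaf ⟨9, 0x2343254327596, 19, 0x664a4a7573457345343177457⟩))
       (.node
        (.leaf ⟨16, 0x34534354, 16, 0⟩)
        (.leaf ⟨4, 0x23435432659, 21, 0x4a7a4a3434574563453437774⟩)))))
    (.node
     (.node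
      (.node
       (.node
        (.leaf ⟨8, 0, 20, 0xa4a785645734534345745645⟩)
        (.leaf ⟨9, 0x2343543656, 19, 0x75654a66564573453435645654⟩))
       (.node
        (.leaf ⟨10, 0x213243575, 20, 0x96a4577345634534378457454⟩)
        (.leaf ⟨6, 0x213435436565, 19, 0x87564a734573457345343165645774⟩)))
      (.node
       (.node
        (.leaf ⟨2, 0x23432547569, 13, 0xa95745343579⟩)
        (.leaf ⟨9, 0x23432543265654, 19, 0xa431695745⟩))
       (.node
        (.leaf ⟨17, 0x6453435684, 17, 0⟩)
        (.leaf ⟨9, 0x213435432754, 18, 0x4a4a56845634534315⟩))))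
     (.node
      (.node
       (.node
        (.leaf ⟨3, 0x577345634534366574574, 3, 0⟩)
        (.leaf ⟨9, 0x23432543757, 16, 0x574a345683456345343579⟩))
       (.node
        (.leaf ⟨10, 0x23432, 20, 0x4a74a6945634534375745754⟩)
        (.leaf ⟨9, 0x234325477, 17, 0x96a643457456345343964⟩)))
      (.node
       (.node
        (.leaf ⟨3, 0x66534315794574, 3, 0⟩)
        (.leaf ⟨9, 0x234325432147, 23, 0x96a964573457345343757456⟩))
       (.node
        (.leaf ⟨7, 0x2343215434, 16, 0x4a31945⟩)
        (.leaf ⟨0, 0, 0, 0⟩))))))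

/-- subtree 1: facts with index congruent to 1 mod 8 -/
def sub1 : TF :=
  .node
   (.node
    (.node
     (.node
      (.node
       (.node
        (.leaf ⟨0, 2, 0, 0⟩)
        (.leaf ⟨9, 0x21343543754375, 20, 0x8564a3456834563453437456854⟩))
       (.node
        (.leaf ⟨4, 0x2343254321, 15, 0xa4a3175774564⟩)
        (.leaf ⟨9, 0x2343543756, 23, 0x5a74a6845734534318756⟩)))
      (.node
       (.node
        (.leaf ⟨14, 0x66453435664, 14, 0⟩)
        (.leaf ⟨9, 0x23432543265, 22, 0x78564a8756456345343756456845⟩))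
       (.node
        (.leaf ⟨9, 0x21343215432656, 20, 0xa64a96574534357457574⟩)
        (.leaf ⟨6, 0x23435432654348, 17, 0x8574a387566456⟩))))
     (.node
      (.node
       (.node
        (.leaf ⟨11, 5, 11, 0⟩)
        (.leaf ⟨9, 0x234354365465, 22, 0x6a4a65734563453431965645⟩))
       (.node
        (.leaf ⟨9, 0x213243, 13, 0xa4a774534319745754⟩)
        (.leaf ⟨8, 0x234354375754, 21, 0x65a64a34563456345343195745⟩)))
      (.node
       (.node
        (.leaf ⟨9, 0, 13, 0xa6654318566⟩)
        (.leaf ⟨8, 0x21343215432178, 23, 0x78a64a43456457345343157456⟩))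
       (.node
        (.leaf ⟨4, 0x234523432543, 4, 0⟩)
        (.leaf ⟨9, 0x2134325477, 18, 0x86a7a4a565645343166454⟩)))))
    (.node
     (.node
      (.node
       (.node
        (.leaf ⟨5, 0x2343254, 17, 0⟩)
        (.leaf ⟨9, 0x2134325436, 19, 0x45654a34565634573453437575⟩))
       (.node
        (.leaf ⟨9, 0x213432156, 15, 0xa7a64a5645634534357457745⟩)
        (.leaf ⟨6, 0x23435436565432, 23, 0x654a795634534317745645⟩)))
      (.node
       (.node
        (.leaf ⟨2, 0x2132, 11, 0xa3157774⟩)
        (.leaf ⟨9, 0x2134321547586, 19, 0x54a74569345634534366564579⟩))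
       (.node
        (.leaf ⟨9, 0x23432547, 23, 0x97a434573456345343975745774⟩)
        (.leaf ⟨9, 0x234325432658, 18, 0x66564a96345634563453439645645⟩))))
     (.node
      (.node
       (.node
        (.leaf ⟨12, 9, 12, 0⟩)
        (.leaf ⟨9, 0x234325466, 19, 0x66a87573457345343656964⟩))
       (.node
        (.leaf ⟨9, 0x21324, 14, 0x4a4a57456345343975745794⟩)
        (.leaf ⟨9, 0x23432543659, 21, 0x86a754a75634563453436575745⟩)))
      (.node
       (.node
        (.leaf ⟨3, 0x21324575, 13, 0x7a84563456345343565645694⟩)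
        (.leaf ⟨9, 0x2134325466, 23, 0x574a6656345634534365784564⟩))
       (.node
        (.leaf ⟨7, 0x234321543478, 22, 0x68a64a34573456345343196564⟩)
        (.leaf ⟨0, 0, 0, 0⟩))))))
   (.node
    (.node
     (.node
      (.node
       (.node
        (.leaf ⟨2, 0, 11, 0xa31⟩)
        (.leaf ⟨9, 0x21345, 22, 0x964a4a5654386456454⟩))
       (.node
        (.leaf ⟨7, 0x21343254, 15, 0x4a7456434573453435784574⟩)
        (.leaf ⟨5, 0x21324, 14, 0x4a7456934563453439656456⟩)))
      (.node
       (.node
        (.leaf ⟨17, 0x4534354, 17, 0⟩)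
        (.leaf ⟨9, 0x21343543275, 16, 0x78a64a65343865⟩))
       (.node
        (.leaf ⟨4, 0x234321578, 20, 0x39⟩)
        (.leaf ⟨9, 0x234, 18, 0x75754a3457573453431757974⟩))))
     (.node
      (.node
       (.node
        (.leaf ⟨1, 0x945734534379565, 1, 0⟩)
        (.leaf ⟨8, 0x234325432147, 19, 0x9564a7457345634534319574575⟩))
       (.node
        (.leaf ⟨3, 0x21324578, 14, 0x77a5745343456457⟩)
        (.leaf ⟨9, 0x234321575, 21, 0x9754a69456345343757974⟩)))
      (.node
       (.node
        (.leaf ⟨2, 0x231256934563453439654, 2, 0⟩)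
        (.leaf ⟨9, 0x2134325432658, 23, 0x4a86345634534387574⟩))
       (.node
        (.leaf ⟨21, 0x9645664, 21, 0⟩)
        (.leaf ⟨16, 0xa4a7856345734534374569456, 16, 0⟩)))))
    (.node
     (.node
      (.node
       (.node
        (.leaf ⟨6, 0x23431564, 21, 0⟩)
        (.leaf ⟨7, 0x213432566, 22, 0x96a8563453431569457⟩))
       (.node
        (.leaf ⟨8, 0x2132, 13, 0x5a64a5634534386574578⟩)
        (.leaf ⟨6, 0x213432546, 23, 0x97a64573453431874⟩)))
      (.node
       (.node
        (.leaf ⟨10, 0, 13, 0xa56543166565⟩)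
        (.leaf ⟨9, 0x234321547578, 23, 0x75754a4563456345343157745⟩))
       (.node
        (.leaf ⟨6, 0x43456345734534378564564, 6, 0⟩)
        (.leaf ⟨9, 0x23432154327578, 18, 0x8a754a68345634534357856⟩))))
     (.node
      (.node
       (.node
        (.leaf ⟨3, 0x43456345734534345745645, 3, 0⟩)
        (.leaf ⟨9, 0x21343254, 22, 0x4a6a4a634573453438574574⟩))
       (.node
        (.leaf ⟨10, 0x213243566, 20, 0x45754a734563456345343665654⟩)
        (.leaf ⟨5, 0x2343215436, 17, 0x634573457345343965⟩)))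
      (.node
       (.node
        (.leaf ⟨9, 0x21324, 14, 0x4a834563453431564⟩)
        (.leaf ⟨9, 0x2343546568, 23, 0x7856a4a45656345634534357456964⟩))
       (.node
        (.leaf ⟨10, 0x21324356, 22, 0x664a785734534319657454⟩)
        (.leaf ⟨0, 0, 0, 0⟩))))))

/-- subtree 2: facts with index congruent to 2 mod 8 -/
def sub2 : TF :=
  .node
   (.node
    (.node
     (.node
      (.node
       (.node
        (.leaf ⟨0, 3, 0, 0⟩)
        (.leaf ⟨9, 0x234325432759, 22, 0xa64a7564573453439565645⟩))
       (.node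
        (.leaf ⟨4, 0x213432156, 13, 0x974a4a657345634534315684575⟩)
        (.leaf ⟨9, 0x23435437575, 23, 0x664a6563453431664574⟩)))
      (.node
       (.node
        (.leaf ⟨15, 9, 15, 0⟩)
        (.leaf ⟨9, 0x2134354365, 16, 0x9654a97345734573453437568456⟩))
       (.node
        (.leaf ⟨9, 0x21324357, 20, 0x457a4a6534317845754⟩)
        (.leaf ⟨6, 0x23435432654, 21, 0x78a64a745734573453438574574⟩))))
     (.node
      (.node
       (.node
        (.leaf ⟨11, 7, 11, 0⟩)
        (.leaf ⟨9, 0x234321546569, 22, 0x45754a5784573453438564575⟩))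
       (.node
        (.leaf ⟨9, 0x23432543, 20, 0x96a7456345734534356645694⟩)
        (.leaf ⟨8, 0x21343543266, 21, 0x564a4a5793457345343864566⟩)))
      (.node
       (.node
        (.leaf ⟨3, 0x2132, 13, 0xa74563456345343166645⟩)
        (.leaf ⟨10, 0x21343254321, 23, 0x664a4a9456345734534365745694⟩))
       (.node
        (.leaf ⟨22, 0x563453435645, 22, 0⟩)
        (.leaf ⟨9, 0x213435466, 18, 0x574a4a96457345343145696⟩)))))
    (.node
     (.node
      (.node
       (.node
        (.leaf ⟨6, 0, 14, 0xa4a785645734534375664564⟩)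
        (.leaf ⟨9, 0x23435436597, 22, 0x8a64a8645634573453436865645⟩))
       (.node
        (.leaf ⟨9, 0x213245, 22, 0x97a77453431457774⟩)
        (.leaf ⟨6, 0x234325432756, 23, 0x75654a73456434573453435645645⟩)))
      (.node
       (.node
        (.leaf ⟨2, 0x21324566, 12, 0x7754a1845⟩)
        (.leaf ⟨9, 0x234354759, 23, 0x8564a665745634534375774574⟩))
       (.node
        (.leaf ⟨9, 0x23432154, 23, 0x66a4563456345343157574574⟩)
        (.leaf ⟨9, 0x213435436565, 18, 0x9754a4577345734534387574⟩))))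
     (.node
      (.node
       (.node
        (.leaf ⟨12, 0x7756345343564566, 12, 0⟩)
        (.leaf ⟨9, 0x2343254327596, 19, 0x78564a5645343177456454⟩))
       (.node
        (.leaf ⟨1, 0x21343543656, 15, 0x94a64a95734573453437957456⟩)
        (.leaf ⟨9, 0x213432154, 21, 0x4a7a4a5643457456345343574575⟩)))
      (.node
       (.node
        (.leaf ⟨10, 0x21324, 13, 0x94a74a857456345343656456454⟩)
        (.leaf ⟨9, 0x2343543265468, 23, 0x5654a54319757456⟩))
       (.node
        (.leaf ⟨8, 0x2343254327, 20, 0x974a4a656345634534386456454⟩)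
        (.leaf ⟨0, 0, 0, 0⟩))))))
   (.node
    (.node
     (.node
      (.node
       (.node
        (.leaf ⟨1, 0x2312, 12, 0⟩)
        (.leaf ⟨9, 0x2134325432756, 23, 0x57a4a834563453437564577⟩))
       (.node
        (.leaf ⟨7, 0x21343254366, 22, 0x77a856453431568457⟩)
        (.leaf ⟨6, 0x234325, 23, 0x54a64a65645734534394575⟩)))
      (.node
       (.node
        (.leaf ⟨6, 0x75773456345343665745774, 6, 0⟩)
        (.leaf ⟨9, 0x234354375, 16, 0x4a64a657345734534316566456⟩))
       (.node
        (.leaf ⟨9, 0x2132432, 22, 0x974a934563457345343185654⟩)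
        (.leaf ⟨9, 0x21343546565, 18, 0x5754a8756456345343965745754⟩))))
     (.node
      (.node
       (.node
        (.leaf ⟨2, 1, 2, 0⟩)
        (.leaf ⟨9, 0x2343215436565, 22, 0x6a4a85645634573453435745784⟩))
       (.node
        (.leaf ⟨9, 0x23432154, 23, 0xa4568345734534386656457⟩)
        (.leaf ⟨9, 0x21343254375, 21, 0x9564a4a574563456345343665⟩)))
      (.node
       (.node
        (.leaf ⟨7, 0x213243, 13, 0x54a6564534356857456⟩)
        (.leaf ⟨9, 0x234354365654, 23, 0x77a8745734573453437945645⟩))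
       (.node
        (.leaf ⟨9, 0x23432154378, 22, 0x7564a757345343187574577⟩)
        (.leaf ⟨19, 0x75754a657453431656845, 19, 0⟩)))))
    (.node
     (.node
      (.node
       (.node
        (.leaf ⟨4, 0x23456, 22, 0⟩)
        (.leaf ⟨9, 0x213435437596, 22, 0x8574a4a43657456454⟩))
       (.node
        (.leaf ⟨8, 0x2132, 13, 0x5a64a56845734534317756456⟩)
        (.leaf ⟨6, 0x21343215478, 19, 0x78a64a4577345734534386457845⟩)))
      (.node
       (.node
        (.leaf ⟨9, 0, 13, 0xa4534379⟩)
        (.leaf ⟨9, 0x234325432656, 23, 0x94a74a6345734534385645664⟩))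
       (.node
        (.leaf ⟨19, 0x57854, 19, 0⟩)
        (.leaf ⟨9, 0x2134354377, 18, 0x454a64a94573453435666⟩))))
     (.node
      (.node
       (.node
        (.leaf ⟨3, 0x345743456345343564564, 3, 0⟩)
        (.leaf ⟨9, 0x2343254365654, 22, 0x9a74a96457345734534345745684⟩))
       (.node
        (.leaf ⟨10, 0x234325, 20, 0x87564a56457345734534356456457⟩)
        (.leaf ⟨9, 0x21343546, 17, 0x97a3456345734534317578454⟩)))
      (.node
       (.node
        (.leaf ⟨7, 0x42342312435, 7, 0⟩)
        (.leaf ⟨8, 0x213432154326, 23, 0x65a64a85645634534356457974⟩))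
       (.node
        (.leaf ⟨9, 0x213243577, 20, 0x84a64a95745734534368574564⟩)
        (.leaf ⟨0, 0, 0, 0⟩))))))

/-- subtree 3: facts with index congruent to 3 mod 8 -/
def sub3 : TF :=
  .node
   (.node
    (.node
     (.node
      (.node
       (.node
        (.leaf ⟨0, 4, 0, 0⟩)
        (.leaf ⟨9, 0x2134325437596, 22, 0x9a64a345793457345343685745⟩))
       (.node
        (.leaf ⟨4, 0x21, 13, 0x4a4a7857345343974569456⟩)
        (.leaf ⟨9, 0x213435437543, 23, 0x75a64a7573453431865645654⟩)))
      (.node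
       (.node
        (.leaf ⟨15, 0x54, 15, 0⟩)
        (.leaf ⟨9, 0x2343566, 22, 0x9564a957456345343696457⟩))
       (.node
        (.leaf ⟨9, 0x21343543654, 20, 0x9564a4a43456457345343157845745⟩)
        (.leaf ⟨9, 0x23432154326568, 17, 0x84a64a573456345343456564⟩))))
     (.node
      (.node
       (.node
        (.leaf ⟨11, 9, 11, 0⟩)
        (.leaf ⟨9, 0x2343546569, 19, 0xa4a57456345343166574⟩))
       (.node
        (.leaf ⟨9, 0x234325437, 20, 0x96a7856453431569456⟩)
        (.leaf ⟨9, 0x23432546565, 21, 0x97a563456345343165645794⟩)))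
      (.node
       (.node
        (.leaf ⟨3, 0x21324577, 13, 0x66a734534395745754⟩)
        (.leaf ⟨9, 0x213435432166, 19, 0x84a64a965645343456564574⟩))
       (.node
        (.leaf ⟨5, 0x74564534315797, 5, 0⟩)
        (.leaf ⟨9, 0x234354365437, 18, 0x974a7453437579457⟩)))))
    (.node
     (.node
      (.node
       (.node
        (.leaf ⟨4, 0x23431254, 16, 0⟩)
        (.leaf ⟨9, 0x2134354375, 16, 0x656a4a6563453434568⟩))
       (.node
        (.leaf ⟨9, 0x21343543758, 22, 0x86564a75683457345343696564⟩)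
        (.leaf ⟨6, 0x2343254321, 19, 0x94a74a756345634534315745666⟩)))
      (.node
       (.node
        (.leaf ⟨2, 0x234325, 12, 0x54a1945⟩)
        (.leaf ⟨9, 0x2343254326587, 23, 0x65754a65745734534386564577⟩))
       (.node
        (.leaf ⟨9, 0x2343254, 23, 0x7a34345645734534387457745⟩)
        (.leaf ⟨9, 0x234354326547, 18, 0x6564a87573457345343975645754⟩))))
     (.node
      (.node
       (.node
        (.leaf ⟨12, 0x68456345734534378564578, 12, 0⟩)
        (.leaf ⟨9, 0x2134354375437, 22, 0x74a5684573453439657⟩))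
       (.node
        (.leaf ⟨8, 0x213435432757, 20, 0x5654a745643457345343574577⟩)
        (.leaf ⟨10, 0x2134325432759, 21, 0x45a64a7345645734534396569⟩)))
      (.node
       (.node
        (.leaf ⟨3, 0x21324, 12, 0x9a6a4a56453438575745⟩)
        (.leaf ⟨8, 0x234321546569, 23, 0x56a4a95734534387565⟩))
       (.node
        (.leaf ⟨8, 0x23432157, 16, 0x77a4573457345343975745754⟩)
        (.leaf ⟨0, 0, 0, 0⟩))))))
   (.node
    (.node
     (.node
      (.node
       (.node
        (.leaf ⟨3, 0, 12, 0xa31774⟩)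
        (.leaf ⟨9, 0x23435437547, 22, 0x54a64a6657456345343568457454⟩))
       (.node
        (.leaf ⟨7, 0x213435436549, 22, 0x7856a4a34534364568⟩)
        (.leaf ⟨6, 0x213243, 14, 0x78a64a757345343177564⟩)))
      (.node
       (.node
        (.leaf ⟨16, 9, 16, 0⟩)
        (.leaf ⟨7, 0x2132432575, 23, 0x94a64a95634573453431745696⟩))
       (.node
        (.leaf ⟨8, 0x2343578, 22, 0x964a734573453431745745654⟩)
        (.leaf ⟨9, 0x2134325436568, 18, 0x54a8745634534374574⟩))))
     (.node
      (.node
       (.node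
        (.leaf ⟨2, 3, 2, 0⟩)
        (.leaf ⟨9, 0x23432547578, 19, 0x66a4a87574534345754⟩))
       (.node
        (.leaf ⟨9, 0x21324, 14, 0x4a6564573453437569457⟩)
        (.leaf ⟨9, 0x2343543265434, 21, 0x5a74a6343457456345343645654⟩)))
      (.node
       (.node
        (.leaf ⟨10, 0x234321578, 13, 0xa4345734534365745745⟩)
        (.leaf ⟨9, 0x234325437566, 23, 0x774a645343174569456⟩))
       (.node
        (.leaf ⟨10, 0x2343257, 16, 0x5654a57574573453431845754⟩)
        (.leaf ⟨21, 0xa6a4a85645634563453436457974, 21, 0⟩)))))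
    (.node
     (.node
      (.node
       (.node
        (.leaf ⟨9, 0, 13, 0xa317⟩)
        (.leaf ⟨3, 0x2343543656, 19, 0x95a74a457345634534319574564⟩))
       (.node
        (.leaf ⟨8, 0x2343257, 15, 0x964a4a74564534356645694⟩)
        (.leaf ⟨6, 0x23432154365, 16, 0x86564a654318565⟩)))
      (.node
       (.node
        (.leaf ⟨7, 0x2132434, 15, 0xa534314⟩)
        (.leaf ⟨9, 0x213432154321, 23, 0x66a6834573453436845754⟩))
       (.node
        (.leaf ⟨20, 0x964a4a5634573453435684565, 20, 0⟩)
        (.leaf ⟨9, 0x21343543754329, 18, 0x96a4a35745685⟩))))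
     (.node
      (.node
       (.node
        (.leaf ⟨13, 9, 13, 0⟩)
        (.leaf ⟨9, 0x2343543654321, 16, 0x6654a579345734534356456457⟩))
       (.node
        (.leaf ⟨9, 0x2343215437, 20, 0x5654a57345343657574⟩)
        (.leaf ⟨9, 0x234354365434, 17, 0x5a74a75684573453437945645⟩)))
      (.node
       (.node
        (.leaf ⟨7, 0x234354, 15, 0x4a4395⟩)
        (.leaf ⟨9, 0x2343543759, 23, 0x657a4a74573456345343157456664⟩))
       (.node
        (.leaf ⟨8, 0x23432157, 16, 0xa64a456934563453439657457⟩)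
        (.leaf ⟨0, 0, 0, 0⟩))))))

/-- subtree 4: facts with index congruent to 4 mod 8 -/
def sub4 : TF :=
  .node
   (.node
    (.node
     (.node
      (.node
       (.node
        (.leaf ⟨0, 5, 0, 0⟩)
        (.leaf ⟨9, 0x2343254326578, 20, 0x8a7a4a6563456345343178456⟩))
       (.node
        (.leaf ⟨4, 0x213432546565, 13, 0x9a64a5745634534315695645⟩)
        (.leaf ⟨9, 0x23435437, 19, 0x86564a9563453437574574⟩)))
      (.node
       (.node
        (.leaf ⟨15, 0x7856457, 15, 0⟩)
        (.leaf ⟨9, 0x213432154754, 16, 0x45754a6657345634534386564574⟩))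
       (.node
        (.leaf ⟨4, 0x23432578, 20, 0x66a4a665745634534365694574⟩)
        (.leaf ⟨6, 0x21343543265, 17, 0x656a4a657345734534377566⟩))))
     (.node
      (.node
       (.node
        (.leaf ⟨1, 1, 1, 0⟩)
        (.leaf ⟨9, 0x234325436565, 22, 0x56564a57573457345343774565⟩))
       (.node
        (.leaf ⟨9, 0x213243, 13, 0xa4a775645634534397577⟩)
        (.leaf ⟨9, 0x2132435, 21, 0x774a456563453431757974⟩)))
      (.node
       (.node
        (.leaf ⟨2, 0x23432543477, 12, 0xa7453434569456⟩)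
        (.leaf ⟨7, 0x23435436548, 23, 0xa654a85645734534365794575⟩))
       (.node
        (.leaf ⟨8, 0x665712345343277534315745666, 8, 0⟩)
        (.leaf ⟨9, 0x23435436, 18, 0x9a74a68345734534345695⟩)))))
    (.node
     (.node
      (.node
       (.node
        (.leaf ⟨5, 2, 18, 0x7564345634534369645745⟩)
        (.leaf ⟨9, 0x234325468, 19, 0x6a97574573453436656⟩))
       (.node
        (.leaf ⟨10, 0x2343254321659, 20, 0x74a7345634573453437564569⟩)
        (.leaf ⟨6, 0x21343254754, 23, 0x94a74a734563456345343684564574⟩)))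
      (.node
       (.node
        (.leaf ⟨1, 0x2132435, 12, 0xa4a656934563453436569456⟩)
        (.leaf ⟨9, 0x234321547578, 23, 0x574a6563457345343177745⟩))
       (.node
        (.leaf ⟨9, 0x234321547, 23, 0x96a6845634573453437456457⟩)
        (.leaf ⟨6, 0x213432543265, 18, 0x6654a434573456345343745745654⟩))))
     (.node
      (.node
       (.node
        (.leaf ⟨12, 0x345343154, 12, 0⟩)
        (.leaf ⟨9, 0x21343254378, 16, 0x9a64a734563453437756645⟩))
       (.node
        (.leaf ⟨8, 0x2343215, 20, 0x6a34573456345343775664⟩)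
        (.leaf ⟨10, 0x2134325432165, 21, 0x9a74a4a75774563453435794574⟩)))
      (.node
       (.node
        (.leaf ⟨7, 0x21324, 13, 0x4a64577345634534357856457⟩)
        (.leaf ⟨9, 0x234354365486, 23, 0x45654a5645634534317574575⟩))
       (.node
        (.leaf ⟨8, 0x234357, 22, 0x774a4a96453431745⟩)
        (.leaf ⟨0, 0, 0, 0⟩))))))
   (.node
    (.node
     (.node
      (.node
       (.node
        (.leaf ⟨1, 0x23431254, 13, 0⟩)
        (.leaf ⟨9, 0x234354375437, 22, 0x74a694563453431756645⟩))
       (.node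
        (.leaf ⟨7, 0x2134354375432, 22, 0x7856a4a65634534385745774⟩)
        (.leaf ⟨6, 0x213435432758, 23, 0x64a4a634563456345343457⟩)))
      (.node
       (.node
        (.leaf ⟨7, 9, 7, 0⟩)
        (.leaf ⟨9, 0x2134321543268, 23, 0x564a4a65634573453439656945⟩))
       (.node
        (.leaf ⟨8, 0x23435432757, 22, 0x66a4a345745634534387574⟩)
        (.leaf ⟨6, 0x2343543654396, 18, 0x9a74a5643457456345343656854⟩))))
     (.node
      (.node
       (.node
        (.leaf ⟨2, 5, 2, 0⟩)
        (.leaf ⟨9, 0x23435437575432, 22, 0x9564a568457345343457974⟩))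
       (.node
        (.leaf ⟨9, 0x21324, 14, 0x4a965745734534387574564⟩)
        (.leaf ⟨9, 0x23432543477, 21, 0x4a6a4a6345343186564578⟩)))
      (.node
       (.node
        (.leaf ⟨3, 0x2132456, 13, 0x7a85645734573453437564569⟩)
        (.leaf ⟨9, 0x2343254326577, 23, 0x8a7a4a65734573453431456⟩))
       (.node
        (.leaf ⟨8, 0x213435436549, 22, 0x657a4a5634534378566456⟩)
        (.leaf ⟨17, 0x964534365684, 17, 0⟩)))))
    (.node
     (.node
      (.node
       (.node
        (.leaf ⟨9, 0x2343254, 23, 0⟩)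
        (.leaf ⟨9, 0x2343254756, 19, 0x664a4a45683456345343568574⟩))
       (.node
        (.leaf ⟨9, 0x2343215, 20, 0x96a4a434573456345343775645⟩)
        (.leaf ⟨6, 0x2134325432654, 19, 0x5654a756345634534315684⟩)))
      (.node
       (.node
        (.leaf ⟨9, 0, 13, 0xa775431569⟩)
        (.leaf ⟨7, 0x2343215432175, 23, 0x454a64a8564573457345343774566⟩))
       (.node
        (.leaf ⟨15, 0x4a4a7577345634534384, 15, 0⟩)
        (.leaf ⟨9, 0x2343215437569, 18, 0x77a4a7834573453439656⟩))))
     (.node
      (.node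
       (.node
        (.leaf ⟨13, 0x3453431, 13, 0⟩)
        (.leaf ⟨9, 0x213435432166, 19, 0x45654a56456345634534377754⟩))
       (.node
        (.leaf ⟨9, 0x23432, 20, 0x4a74a734534317975745⟩)
        (.leaf ⟨6, 0x2343254758, 17, 0x56a754a4568345734534369656⟩)))
      (.node
       (.node
        (.leaf ⟨10, 0x34231234568345634534317456454, 10, 0⟩)
        (.leaf ⟨9, 0x23432154758, 23, 0x656a4a5694563453431875645684⟩))
       (.node
        (.leaf ⟨9, 0x2343254377, 22, 0x86a754a5694563453436954⟩)
        (.leaf ⟨0, 0, 0, 0⟩))))))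

/-- subtree 5: facts with index congruent to 5 mod 8 -/
def sub5 : TF :=
  .node
   (.node
    (.node
     (.node
      (.node
       (.node
        (.leaf ⟨0, 6, 0, 0⟩)
        (.leaf ⟨7, 0x2134321547596, 19, 0xa6564a745734563453431974564⟩))
       (.node
        (.leaf ⟨9, 0x21324578, 22, 0x6a66566⟩)
        (.leaf ⟨6, 0x213243575, 19, 0x68a64a6564345734534365745666⟩)))
      (.node
       (.node
        (.leaf ⟨4, 8, 4, 0⟩)
        (.leaf ⟨7, 0x2343215432, 16, 0xa453434⟩))
       (.node
        (.leaf ⟨9, 0x2343215432759, 20, 0x97a4a964534356945654⟩)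
        (.leaf ⟨6, 0x234354758, 17, 0x9564a4a65734534315784⟩))))
     (.node
      (.node
       (.node
        (.leaf ⟨1, 0x75773456345343665745774, 1, 0⟩)
        (.leaf ⟨7, 0x23432154327569, 22, 0x964a345656345343165685⟩))
       (.node
        (.leaf ⟨3, 0x2132457, 14, 0x97a3457734563453438656456⟩)
        (.leaf ⟨9, 0x213435478, 21, 0x664a5743456345343456864⟩)))
      (.node
       (.node
        (.leaf ⟨3, 0, 12, 0x8a74a434573453439574⟩)
        (.leaf ⟨9, 0x213435432757, 23, 0x45654a756345343175754⟩))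
       (.node
        (.leaf ⟨20, 0x964a4a3453434578, 20, 0⟩)
        (.leaf ⟨6, 0x2343215437586, 18, 0xa654a79563453436456654⟩)))))
    (.node
     (.node
      (.node
       (.node
        (.leaf ⟨7, 0, 13, 0xa31⟩)
        (.leaf ⟨9, 0x23432543268, 22, 0x9a74a4a9657345343874574⟩))
       (.node
        (.leaf ⟨10, 0x234325478, 22, 0x6a4345645734534387564⟩)
        (.leaf ⟨6, 0x2343254324, 23, 0x54a7457345634534397566456⟩)))
      (.node
       (.node
        (.leaf ⟨1, 0x213245, 12, 0x6a657345343579456⟩)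
        (.leaf ⟨10, 0x234321546587, 23, 0x97a4a73456345634534316964⟩))
       (.node
        (.leaf ⟨12, 0x94a64a34573456345343457954, 12, 0⟩)
        (.leaf ⟨6, 0x234321543659, 18, 0x564a5734534385757⟩))))
     (.node
      (.node
       (.node
        (.leaf ⟨12, 0x96457345734534386456645, 12, 0⟩)
        (.leaf ⟨9, 0x213435437575, 19, 0x75a74a565634534377745⟩))
       (.node
        (.leaf ⟨9, 0x21324566, 20, 0x77a87566⟩)
        (.leaf ⟨6, 0x2132435, 17, 0xa77345343156964⟩)))
      (.node
       (.node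
        (.leaf ⟨10, 0x23432157, 13, 0x4a6a4a85634534378564578⟩)
        (.leaf ⟨8, 0x213435432758, 23, 0x657a4a4565634534315745684⟩))
       (.node
        (.leaf ⟨9, 0x213432154326549, 22, 0x96a864573453438665⟩)
        (.leaf ⟨0, 0, 0, 0⟩))))))
   (.node
    (.node
     (.node
      (.node
       (.node
        (.leaf ⟨3, 0x2343254, 14, 0⟩)
        (.leaf ⟨7, 0x21343215432177, 19, 0x95a74a875734534374579456⟩))
       (.node
        (.leaf ⟨9, 0x213432546, 14, 0x45754a6456345343564568⟩)
        (.leaf ⟨6, 0x2343215, 22, 0x77a64a7568345734534357454⟩)))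
      (.node
       (.node
        (.leaf ⟨7, 0x7577345634534396569456, 7, 0⟩)
        (.leaf ⟨7, 0x53431274569345634534366566456, 7, 0⟩))
       (.node
        (.leaf ⟨8, 0x23435436568, 22, 0xa74a4a8564573453435694⟩)
        (.leaf ⟨9, 0x234354365466, 18, 0x7a6a4a4564345634534377⟩))))
     (.node
      (.node
       (.node
        (.leaf ⟨2, 9, 2, 0⟩)
        (.leaf ⟨9, 0x2134354758, 19, 0x45a64a9756345634534365645696⟩))
       (.node
        (.leaf ⟨9, 0x21324, 14, 0x4a74a643457345343457774⟩)
        (.leaf ⟨9, 0x213243578, 21, 0x45654a565431665754⟩)))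
      (.node
       (.node
        (.leaf ⟨3, 0, 12, 0xa64a773456345343756845754⟩)
        (.leaf ⟨8, 0x234321543266, 23, 0x56a4a56563453435774565⟩))
       (.node
        (.leaf ⟨9, 0x234321578, 20, 0x656a4a7457345343454⟩)
        (.leaf ⟨5, 0x651234231266564573453436645664, 5, 0⟩)))))
    (.node
     (.node
      (.node
       (.node
        (.leaf ⟨10, 0, 13, 0xa316⟩)
        (.leaf ⟨9, 0x2134321543659, 22, 0x9754a87573453434569654⟩))
       (.node
        (.leaf ⟨8, 0x23432578, 13, 0x656a4a564564345634534397574564⟩)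
        (.leaf ⟨6, 0x2343547579, 21, 0x4a7543175645784⟩)))
      (.node
       (.node
        (.leaf ⟨10, 0, 13, 0xa774534397⟩)
        (.leaf ⟨9, 0x234354365654, 23, 0x656a4a45783457345343875654⟩))
       (.node
        (.leaf ⟨13, 0x75343569, 13, 0⟩)
        (.leaf ⟨9, 0x234354756, 18, 0xa654a457934573453439757454⟩))))
     (.node
      (.node
       (.node
        (.leaf ⟨13, 0x534385, 13, 0⟩)
        (.leaf ⟨4, 0x2132457, 16, 0x97a4a578345734534356845745⟩))
       (.node
        (.leaf ⟨9, 0x2343256, 20, 0x9a74a973456345343857⟩)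
        (.leaf ⟨9, 0x21343546, 17, 0x97a657345634534365745784⟩)))
      (.node
       (.node
        (.leaf ⟨10, 0x6563453431273456345634534316956457, 10, 0⟩)
        (.leaf ⟨9, 0x2343543756, 23, 0x74a4a6573457345343575754⟩))
       (.node
        (.leaf ⟨9, 0x23432547546, 22, 0xa7a4a7934573453438564566⟩)
        (.leaf ⟨0, 0, 0, 0⟩))))))

/-- subtree 6: facts with index congruent to 6 mod 8 -/
def sub6 : TF :=
  .node
   (.node
    (.node
     (.node
      (.node
       (.node
        (.leaf ⟨0, 8, 0, 0⟩)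
        (.leaf ⟨9, 0x213432543278, 22, 0x66a4a5656456345343565645784⟩))
       (.node
        (.leaf ⟨4, 0x23432154375, 22, 0x563453435645⟩)
        (.leaf ⟨9, 0x234325437578, 23, 0x664a8645634573453438457⟩)))
      (.node
       (.node
        (.leaf ⟨4, 0x5343, 4, 0⟩)
        (.leaf ⟨9, 0x213435432165, 22, 0xa74a4a75734573453438756457⟩))
       (.node
        (.leaf ⟨9, 0x23432575, 20, 0x5654a9757457345343574579⟩)
        (.leaf ⟨6, 0x2132432, 18, 0x4a4564345634534378564574⟩))))
     (.node
      (.node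
       (.node
        (.leaf ⟨1, 0x3435, 1, 0⟩)
        (.leaf ⟨8, 0x2343215437577, 19, 0xa7a4a34575734534315745695⟩))
       (.node
        (.leaf ⟨9, 0x21324, 14, 0x4a74a684573453431685745774⟩)
        (.leaf ⟨9, 0x234325465, 21, 0x6a7a4a4568345634534364569⟩)))
      (.node
       (.node
        (.leaf ⟨2, 0x234354321654, 13, 0x754a5654317845754⟩)
        (.leaf ⟨9, 0x23435432654346, 19, 0xa7a64a434573453439745754⟩))
       (.node
        (.leaf ⟨4, 0x4534326543165656, 4, 0⟩)
        (.leaf ⟨3, 0x2343546587, 18, 0x6a754a4564534345797⟩)))))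
    (.node
     (.node
      (.node
       (.node
        (.leaf ⟨3, 0x234577, 19, 0⟩)
        (.leaf ⟨9, 0x213432543277, 22, 0x457a4a7564563453438657457⟩))
       (.node
        (.leaf ⟨10, 0x234321, 22, 0x65754a573456345343195654⟩)
        (.leaf ⟨6, 0x23435478, 19, 0x8a754a7856453431578457⟩)))
      (.node
       (.node
        (.leaf ⟨9, 0x2132, 15, 0xa534316954⟩)
        (.leaf ⟨7, 0x2343215436597, 23, 0x9a64a956345734534316954⟩))
       (.node
        (.leaf ⟨14, 0x57574534315686456, 14, 0⟩)
        (.leaf ⟨9, 0x23432546578, 18, 0x7754a793457345343864574⟩))))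
     (.node
      (.node
       (.node
        (.leaf ⟨3, 0x75773456345343665745774, 3, 0⟩)
        (.leaf ⟨9, 0x213435432175, 19, 0x4a4a753431574575⟩))
       (.node
        (.leaf ⟨3, 0x23432546568, 20, 0x66a5645634563453431745654⟩)
        (.leaf ⟨9, 0x234325478, 17, 0x97a565645343568456⟩)))
      (.node
       (.node
        (.leaf ⟨7, 0x21324324, 13, 0x4a195⟩)
        (.leaf ⟨9, 0x2343254759, 23, 0x45654a74574563453435645774⟩))
       (.node
        (.leaf ⟨9, 0x23432566, 22, 0x5654a665645734534317456964⟩)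
        (.leaf ⟨0, 0, 0, 0⟩))))))
   (.node
    (.node
     (.node
      (.node
       (.node
        (.leaf ⟨1, 2, 15, 0⟩)
        (.leaf ⟨9, 0x2343215432756, 19, 0x56564a6457434563453439457⟩))
       (.node
        (.leaf ⟨9, 0x2134321546, 13, 0x6a4a77534319645664⟩)
        (.leaf ⟨6, 0x2134325436565, 22, 0x6564a7564563453436645694⟩)))
      (.node
       (.node
        (.leaf ⟨9, 0x75773456345343665745774, 9, 0⟩)
        (.leaf ⟨9, 0x2134354656, 23, 0x7a6a4a54318756⟩))
       (.node
        (.leaf ⟨9, 0x23435432656, 22, 0x9564a4a965734573453437757457⟩)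
        (.leaf ⟨9, 0x234325432756, 18, 0x75654a4575734534315745664⟩))))
     (.node
      (.node
       (.node
        (.leaf ⟨2, 0x75773456345343665745774, 2, 0⟩)
        (.leaf ⟨9, 0x2343215437579, 22, 0x75754a665745634534375645797⟩))
       (.node
        (.leaf ⟨9, 0x21324, 14, 0x84a64a569345634534379564574⟩)
        (.leaf ⟨9, 0x21343543754, 21, 0x4a4a54345696⟩)))
      (.node
       (.node
        (.leaf ⟨3, 0x21324566, 13, 0x66a643457456345343964566⟩)
        (.leaf ⟨9, 0x234321547569, 23, 0x65a64a8634563453437574565⟩))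
       (.node
        (.leaf ⟨3, 0x23432154756, 22, 0xa7a4a4569345634534385745774⟩)
        (.leaf ⟨18, 0x345343154, 18, 0⟩)))))
    (.node
     (.node
      (.node
       (.node
        (.leaf ⟨11, 1, 11, 0⟩)
        (.leaf ⟨9, 0x213457, 22, 0x574a4a3453435774564⟩))
       (.node
        (.leaf ⟨8, 0x95623452343273456345734534395656457, 8, 0⟩)
        (.leaf ⟨9, 0x2343543654386, 21, 0xa7a64a9757345734534356457745⟩)))
      (.node
       (.node
        (.leaf ⟨9, 0x213243, 13, 0xa4a775634534345645⟩)
        (.leaf ⟨9, 0x234321547569, 23, 0x9a6a4a9756345634534379457456⟩))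
       (.node
        (.leaf ⟨9, 0x753423128574563453436574569, 9, 0⟩)
        (.leaf ⟨9, 0x2343254326597, 18, 0x774a4a565645734534377564577⟩))))
     (.node
      (.node
       (.node
        (.leaf ⟨14, 0x4534354, 14, 0⟩)
        (.leaf ⟨9, 0x2343215432757, 22, 0x5654a875634563453439457454⟩))
       (.node
        (.leaf ⟨9, 0x2343215432759, 20, 0x96a4a95634534394564⟩)
        (.leaf ⟨6, 0x21324321, 17, 0x4a857345343965654⟩)))
      (.node
       (.node
        (.leaf ⟨3, 0x21324578, 14, 0x6a64563456345343865645654⟩)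
        (.leaf ⟨9, 0x23435432654346, 19, 0x7a64a574573453439565645⟩))
       (.node
        (.leaf ⟨9, 0x2343215436, 20, 0x5a74a9757345343565645774⟩)
        (.leaf ⟨0, 0, 0, 0⟩))))))

/-- subtree 7: facts with index congruent to 7 mod 8 -/
def sub7 : TF :=
  .node
   (.node
    (.node
     (.node
      (.node
       (.node
        (.leaf ⟨0, 0, 11, 0⟩)
        (.leaf ⟨9, 0x2343575, 22, 0x564a757453437574565⟩))
       (.node
        (.leaf ⟨7, 0x2343254368, 22, 0x6a785634534357456⟩)
        (.leaf ⟨9, 0x23432543275, 19, 0x84a64a575734573453431875754⟩)))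
      (.node
       (.node
        (.leaf ⟨4, 0x945734534379565, 4, 0⟩)
        (.leaf ⟨9, 0x2134321543216, 16, 0xa74a34577345634534368575⟩))
       (.node
        (.leaf ⟨9, 0x2343254366, 20, 0x964a85745634534387566456⟩)
        (.leaf ⟨9, 0x21343215432658, 18, 0x77a4a634573453437856456⟩))))
     (.node
      (.node
       (.node
        (.leaf ⟨1, 8, 1, 0⟩)
        (.leaf ⟨9, 0x23432543243, 22, 0x9564a785645343756954⟩))
       (.node
        (.leaf ⟨9, 0x21324, 14, 0x4a4a756457345343696564⟩)
        (.leaf ⟨9, 0x213432154378, 21, 0x6564a345643456345343686564⟩)))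
      (.node
       (.node
        (.leaf ⟨9, 0x2132456, 13, 0x74a64563456345343175745694⟩)
        (.leaf ⟨9, 0x2132432575, 23, 0x664a4a457456345634534374575745⟩))
       (.node
        (.leaf ⟨6, 0x57345734534316845645, 6, 0⟩)
        (.leaf ⟨6, 0x4231234575734534318564566, 6, 0⟩)))))
    (.node
     (.node
      (.node
       (.node
        (.leaf ⟨4, 0x234577, 20, 0⟩)
        (.leaf ⟨9, 0x2134325468, 22, 0x65a64a664563453439757456⟩))
       (.node
        (.leaf ⟨10, 0x234325, 20, 0x87564a657457345343566⟩)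
        (.leaf ⟨6, 0x234354321, 22, 0x8a74a93456345734534356654⟩)))
      (.node
       (.node
        (.leaf ⟨10, 0x2132, 15, 0xa5343179⟩)
        (.leaf ⟨9, 0x213435432757, 23, 0xa654a756453431645695⟩))
       (.node
        (.leaf ⟨5, 0x434563457345343795745754, 5, 0⟩)
        (.leaf ⟨9, 0x21343254368, 18, 0xa7a4a3456434573453434569654⟩))))
     (.node
      (.node
       (.node
        (.leaf ⟨3, 0x56345734534345745645, 3, 0⟩)
        (.leaf ⟨8, 0x213432566, 19, 0x657a4a56456345634534369456⟩))
       (.node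
        (.leaf ⟨10, 0x213243575, 20, 0x96a657345343145684564⟩)
        (.leaf ⟨9, 0x234325477, 17, 0x96a643457456345343665754⟩)))
      (.node
       (.node
        (.leaf ⟨3, 0x423123456457345343745696, 3, 0⟩)
        (.leaf ⟨9, 0x23435432654329, 23, 0xa7a4a863457345734534368574565⟩))
       (.node
        (.leaf ⟨9, 0x234321577, 22, 0x86564a665745634534396574564⟩)
        (.leaf ⟨0, 0, 0, 0⟩))))))
   (.node
    (.node
     (.node
      (.node
       (.node
        (.leaf ⟨4, 0, 15, 0xa4a7856457345343785645784⟩)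
        (.leaf ⟨9, 0x2343254321659, 20, 0x4a7a4a94573453435774574⟩))
       (.node
        (.leaf ⟨9, 0x21343256, 15, 0xa7a4a745634534386574565⟩)
        (.leaf ⟨6, 0x213243566, 19, 0x66a85645634534374574565⟩)))
      (.node
       (.node
        (.leaf ⟨23, 0x4534354, 23, 0⟩)
        (.leaf ⟨9, 0x21343547586, 23, 0x9654a73456345343574568⟩))
       (.node
        (.leaf ⟨9, 0x23432578, 22, 0x4a6a4a97345634534396457745⟩)
        (.leaf ⟨9, 0x234321543277, 18, 0x94a74a95634534377457454⟩))))
     (.node
      (.node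
       (.node
        (.leaf ⟨2, 0x7565, 2, 0⟩)
        (.leaf ⟨9, 0x2343215432177, 20, 0x6a7754396569⟩))
       (.node
        (.leaf ⟨9, 0x23432547, 23, 0xa96345634563453438457454⟩)
        (.leaf ⟨9, 0x2343254375, 21, 0xa654a6569456345343756456654⟩)))
      (.node
       (.node
        (.leaf ⟨10, 0x213243, 13, 0x87564a97574534315684575⟩)
        (.leaf ⟨9, 0x234325432657, 19, 0x86a7a4a5745634534385754⟩))
       (.node
        (.leaf ⟨8, 0x2343543278, 22, 0xa7a4a5745343145784⟩)
        (.leaf ⟨18, 0x564534356845, 18, 0⟩)))))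
    (.node
     (.node
      (.node
       (.node
        (.leaf ⟨11, 3, 11, 0⟩)
        (.leaf ⟨8, 0x2343543656, 19, 0x654a665343169⟩))
       (.node
        (.leaf ⟨9, 0x21324, 14, 0x4a4a5773456345343745645754⟩)
        (.leaf ⟨6, 0x21324321566, 21, 0x8a7a4a756645634534375696⟩)))
      (.node
       (.node
        (.leaf ⟨7, 0, 13, 0xa965431578⟩)
        (.leaf ⟨9, 0x213432154757, 16, 0x7856a4a694563453431574577⟩))
       (.node
        (.leaf ⟨14, 0xa3453431457974, 14, 0⟩)
        (.leaf ⟨9, 0x2343547578, 18, 0x75a64a345773456345343745696⟩))))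
     (.node
      (.node
       (.node
        (.leaf ⟨14, 0x963453435684, 14, 0⟩)
        (.leaf ⟨7, 0x2132435, 16, 0xa74569345634534368456457⟩))
       (.node
        (.leaf ⟨8, 0x234354375434, 20, 0x8a7a4a65343865645⟩)
        (.leaf ⟨9, 0x23432154326568, 17, 0x84a64a57734573453439456564⟩)))
      (.node
       (.node
        (.leaf ⟨4, 0x2132, 13, 0x4a4a4534318454⟩)
        (.leaf ⟨10, 0x2134325432659, 19, 0x9a74a4a57345734534357756456⟩))
       (.node
        (.leaf ⟨7, 0x21324566, 22, 0x6a754a34573453435684575⟩)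
        (.leaf ⟨0, 0, 0, 0⟩))))))

/-- all facts -/
def facts : TF :=
  .node (.node (.node (sub0) (sub4)) (.node (sub2) (sub6))) (.node (.node (sub1) (sub5)) (.node (sub3) (sub7)))

/-- fact number `i` -/
def tab (i : ℕ) : Fact := facts.get i

end Cfsg.Agent.Th.FactData
end
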